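import Groth.Agent.Sga3.H787.FlatAff
import Groth.Agent.Sga3B.KerGrp
import Mathlib.AlgebraicGeometry.Morphisms.FlatDescent

/-!
# Functions on the kernel of the affine hull of an algebraic group over a field

`u : G ⟶ H` the affine hull of an algebraic group over a field `k`; then `𝒪(ker u) = k`.
-/

set_option autoImplicit false
universe u
open CategoryTheory MonoidalCategory CartesianMonoidalCategory MonObj GrpObj AlgebraicGeometry Limits

namespace Groth.Agent.Sga3.H787.HullKer

open Groth.Agent.Sga3C.Affinization Groth.Agent.Sga3B.KerGrp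

/-- bijectivity descends along faithfully flat ring maps -/
theorem isIso_of_isPushout {R A C P : CommRingCat.{u}} {f : R ⟶ A} {g : R ⟶ C} {inl : A ⟶ P}
    {inr : C ⟶ P} (h : IsPushout f g inl inr) (hf : f.hom.FaithfullyFlat) (hinl : IsIso inl) :
    IsIso g := by
  let _ := f.hom.toAlgebra
  let _ := g.hom.toAlgebra
  let _ := inl.hom.toAlgebra
  let _ := inr.hom.toAlgebra
  let _ := (f ≫ inl).hom.toAlgebra
  have : IsScalarTower R A P := IsScalarTower.of_algebraMap_eq' rfl
  have : IsScalarTower R C P := IsScalarTower.of_algebraMap_eq' (by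
    change (f ≫ inl).hom = (g ≫ inr).hom
    rw [h.w])
  have hp : Algebra.IsPushout R C A P := CommRingCat.isPushout_iff_isPushout.mp h.flip
  have h1 : Function.Bijective (algebraMap A P) := ConcreteCategory.bijective_of_isIso inl
  have h2 : Function.Bijective (algebraMap R C) :=
    RingHom.FaithfullyFlat.codescendsAlong_bijective (R := R) (S := C) (R' := A) (S' := P) hf h1
  exact (ConcreteCategory.isIso_iff_bijective g).mpr h2

/-- flat base change for global functions -/
theorem isPushout_appTop_of_flat {X Y S T : Scheme.{u}} {f : T ⟶ S} {g : Y ⟶ X} {iX : X ⟶ S}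
    {iY : Y ⟶ T} (H : IsPullback g iY iX f) [Flat f] [IsAffine S] [CompactSpace T]
    [QuasiSeparatedSpace T] [CompactSpace X] [QuasiSeparatedSpace X] (hiX : iX.appTop.hom.Flat) :
    IsPushout iX.appTop f.appTop g.appTop iY.appTop := by
  have e : ∀ {A B : Scheme.{u}} (f : A ⟶ B) (h : (⊤ : A.Opens) ≤ f ⁻¹ᵁ ⊤), f.appLE ⊤ ⊤ h = f.appTop :=
    fun f _ => Scheme.Hom.appLE_eq_app f
  have h1 := isIso_pushoutSection_of_isCompact_of_flat_right_of_ringHomFlat (US := ⊤) (UT := ⊤) (UX := ⊤) (UY := ⊤) H
    (by simp) (by simp) (by simp) (isAffineOpen_top _) CompactSpace.isCompact_univ isQuasiSeparated_univ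
    CompactSpace.isCompact_univ isQuasiSeparated_univ (by rw [e]; exact hiX)
  have h2 := (isIso_pushoutSection_iff ..).mp h1
  simpa only [e] using h2

/-- Any ring map from `Γ(Spec k, ⊤)`, `k` a field, to a nonzero ring is faithfully flat. -/
theorem faithfullyFlat_of_field (k : Type u) [Field k] {R : CommRingCat.{u}} [Nontrivial R]
    (φ : Γ(Spec (CommRingCat.of k), ⊤) ⟶ R) : φ.hom.FaithfullyFlat := by
  have h1 : ((Scheme.ΓSpecIso (CommRingCat.of k)).inv ≫ φ).hom.FaithfullyFlat := by
    let := ((Scheme.ΓSpecIso (CommRingCat.of k)).inv ≫ φ).hom.toAlgebra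
    change Module.FaithfullyFlat k R
    infer_instance
  have h2 : (Scheme.ΓSpecIso (CommRingCat.of k)).hom.hom.FaithfullyFlat :=
    RingHom.FaithfullyFlat.of_bijective (ConcreteCategory.bijective_of_isIso (Scheme.ΓSpecIso (CommRingCat.of k)).hom)
  have h3 : φ = (Scheme.ΓSpecIso (CommRingCat.of k)).hom ≫ (Scheme.ΓSpecIso (CommRingCat.of k)).inv ≫ φ := by
    rw [Iso.hom_inv_id_assoc]
  rw [h3, CommRingCat.hom_comp]
  exact RingHom.FaithfullyFlat.stableUnderComposition _ _ h2 h1

/-- `u : G ⟶ H` the affine hull of an algebraic group over a field `k`; then `𝒪(ker u) = k`. -/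
theorem isIso_appTop_ker {k : Type u} [Field k] {G H : Over (Spec (CommRingCat.of k))} [GrpObj G]
    [GrpObj H] [LocallyOfFiniteType G.hom] [QuasiCompact G.hom] (u : G ⟶ H) [IsMonHom u]
    (ha : IsAffinization u) : IsIso (kerObj u).hom.appTop := by
  have h1 : CompactSpace G.left := QuasiCompact.compactSpace_of_compactSpace G.hom
  have h2 : IsLocallyNoetherian G.left := LocallyOfFiniteType.isLocallyNoetherian G.hom
  have h3 := ha.isAffine
  have h4 := ha.isIso
  have h5 : Flat u.left :=
    Groth.Agent.Sga3.H787.FlatAff.flat_of_injective u (ConcreteCategory.bijective_of_isIso u.left.appTop).1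
  -- functions on `G ×_H G`
  have h6 := isPushout_appTop_of_flat (IsPullback.of_hasPullback u.left u.left)
    (RingHom.Flat.of_bijective (ConcreteCategory.bijective_of_isIso u.left.appTop))
  have h7 : IsIso (pullback.fst u.left u.left).appTop := h6.isIso_inl_of_isIso
  -- functions on `G × ker u`
  obtain ⟨d, hd⟩ := Groth.Agent.Sga3C.KerSquare.isPullback_fst_ker u
  have hd' : IsPullback (Z := Spec (CommRingCat.of k)) (pullback.fst u.left u.left)
      (show _ ⟶ (kerObj u).left from d) G.hom (kerObj u).hom := hd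
  have h8 : QuasiCompact (u.left ≫ H.hom) := by rw [Over.w]; infer_instance
  have h9 : LocallyOfFiniteType (u.left ≫ H.hom) := by rw [Over.w]; infer_instance
  have h10 : QuasiCompact u.left := QuasiCompact.of_comp u.left H.hom
  have h11 : LocallyOfFiniteType u.left := locallyOfFiniteType_of_comp u.left H.hom
  have h12 : QuasiCompact (kerObj u).hom :=
    inferInstanceAs (QuasiCompact (pullback.snd u.left (η[H] : 𝟙_ _ ⟶ H).left))
  have h13 : LocallyOfFiniteType (kerObj u).hom :=
    inferInstanceAs (LocallyOfFiniteType (pullback.snd u.left (η[H] : 𝟙_ _ ⟶ H).left))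
  have h14 : CompactSpace (kerObj u).left := QuasiCompact.compactSpace_of_compactSpace (kerObj u).hom
  have h15 : IsLocallyNoetherian (kerObj u).left := LocallyOfFiniteType.isLocallyNoetherian (kerObj u).hom
  have h16 : Flat (kerObj u).hom := inferInstance
  have h17 := isPushout_appTop_of_flat hd' (flat_of_field k _)
  have : Nontrivial Γ(G.left, ⊤) := by
    have : Nonempty (⊤ : G.left.Opens) :=
      ⟨⟨(η[G] : 𝟙_ (Over (Spec (CommRingCat.of k))) ⟶ G).left (IsLocalRing.closedPoint k), trivial⟩⟩
    infer_instance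
  exact isIso_of_isPushout h17 (faithfullyFlat_of_field k _) h7

end Groth.Agent.Sga3.H787.HullKer
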