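import Groth.Agent.Sga3.H787.GenMain
import Groth.Agent.Sga3.H8.Quot3

/-!
# The algebraic quotient `G/N` from a morphism separating the cosets of `N`

`G` a quasi-compact group scheme over the field `k`, `N` a normal subgroup.  Suppose that over a finite
extension `k'` of `k` there is a morphism `f : G_{k'} ⟶ Z` to a separated scheme of finite type with
`f a = f b` iff `a⁻¹ b ∈ N`.  Then `G/N` exists as a group scheme locally of finite type over `k`.
-/

set_option autoImplicit false
universe v u
open CategoryTheory MonoidalCategory CartesianMonoidalCategory MonObj GrpObj AlgebraicGeometry Limits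

namespace Groth.Agent.Sga3.H787.GenQuot

open Groth.Agent.Sga3.H8.FpqcQuot Groth.Agent.Sga3.H8.MaxPt Groth.Agent.Sga3.H8
  Groth.Agent.Sga3.H787.GenCongr Groth.Agent.Sga3.H787.GenMain

/-- Replacing `Z` by the schematic image. -/
theorem exists_dominant_factor {S : Scheme.{u}} {G Z : Over S} (f : G ⟶ Z) [IsSeparated Z.hom]
    [LocallyOfFiniteType Z.hom] [QuasiCompact Z.hom] :
    ∃ (Z' : Over S) (f' : G ⟶ Z') (i : Z' ⟶ Z), f' ≫ i = f ∧ IsClosedImmersion i.left ∧ Mono i ∧
      IsSchemeTheoreticallyDominant f'.left ∧ IsSeparated Z'.hom ∧ LocallyOfFiniteType Z'.hom ∧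
      QuasiCompact Z'.hom := by
  let i : Over.mk (f.left.imageι ≫ Z.hom) ⟶ Z := Over.homMk f.left.imageι rfl
  have hi : IsClosedImmersion i.left := inferInstanceAs (IsClosedImmersion f.left.imageι)
  refine ⟨Over.mk (f.left.imageι ≫ Z.hom), Over.homMk f.left.toImage (by
      change f.left.toImage ≫ f.left.imageι ≫ Z.hom = _
      rw [Scheme.Hom.toImage_imageι_assoc, Over.w]), i, ?_, hi, ?_, ?_, ?_, ?_, ?_⟩
  · ext1
    exact Scheme.Hom.toImage_imageι f.left
  · have : Mono i.left := inferInstance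
    exact Over.mono_of_mono_left i
  · exact Groth.Agent.Sga3C.SchemImage.dominant_toImage f.left
  · change IsSeparated (f.left.imageι ≫ Z.hom)
    infer_instance
  · change LocallyOfFiniteType (f.left.imageι ≫ Z.hom)
    infer_instance
  · change QuasiCompact (f.left.imageι ≫ Z.hom)
    infer_instance

/-- The open subset of generic flatness, for a morphism which is not necessarily dominant. -/
theorem exists_open_of_kerRel {k : Type u} [Field k] {G N Z : Over (Spec (CommRingCat.of k))}
    [GrpObj G] [GrpObj N] [QuasiCompact G.hom] (n : N ⟶ G) [IsMonHom n]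
    (hN : AlgGrp.IsNormalHom n) [IsSeparated Z.hom] [LocallyOfFiniteType Z.hom]
    [QuasiCompact Z.hom] (f : G ⟶ Z) (hf : KerRel n f) :
    ∃ (Z' : Over (Spec (CommRingCat.of k))) (f' : G ⟶ Z') (i : Z' ⟶ Z) (U : Z'.left.Opens),
      f' ≫ i = f ∧ IsClosedImmersion i.left ∧ Mono i ∧ KerRel n f' ∧ IsSeparated Z'.hom ∧
      LocallyOfFiniteType Z'.hom ∧ QuasiCompact Z'.hom ∧ Flat (f'.left ∣_ U) ∧
      Surjective (f'.left ∣_ U) ∧ ∀ x : G.left, IsMaxPt x → f'.left x ∈ U := by
  obtain ⟨Z', f', i, h1, h2, h3, h4, h5, h6, h7⟩ := exists_dominant_factor f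
  have hf' : KerRel n f' := KerRel.of_comp_mono i (by rw [h1]; exact hf)
  obtain ⟨U, hU1, hU2, hU3⟩ := exists_open k G N Z' n hN f' (fun T a b => by
    rw [hf' T a b]
    exact exists_congr fun c => eq_comm)
  exact ⟨Z', f', i, U, h1, h2, h3, hf', h5, h6, h7, hU2, hU3, hU1⟩

/-- `G/N` is a group scheme locally of finite type as soon as, over a finite extension, there is a
morphism to a separated scheme of finite type separating the cosets of `N`. -/
theorem exists_quot {k k' : Type u} [Field k] [Field k'] [Algebra k k'] [Module.Finite k k']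
    {G N : Over (Spec (CommRingCat.of k))} [GrpObj G] [GrpObj N]
    [QuasiCompact G.hom] (n : N ⟶ G) [IsMonHom n] [Mono n] (hN : AlgGrp.IsNormalHom n)
    (Z : Over (Spec (CommRingCat.of k'))) [IsSeparated Z.hom] [LocallyOfFiniteType Z.hom]
    [QuasiCompact Z.hom] (f : Red.bc (Quot3b.ext k k') G ⟶ Z)
    (hf : KerRel ((Over.pullback (Quot3b.ext k k')).map n) f) :
    ∃ (Q : Over (Spec (CommRingCat.of k))) (_ : GrpObj Q) (q : G ⟶ Q), IsMonHom q ∧
      Surjective q.left ∧ Flat q.left ∧ QuasiCompact q.left ∧ LocallyOfFiniteType Q.hom ∧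
      AlgGrp.IsKernel n q := by
  have hqc : QuasiCompact (Red.bc (Quot3b.ext k k') G).hom :=
    inferInstanceAs (QuasiCompact (pullback.snd G.hom (Quot3b.ext k k')))
  obtain ⟨Z', f', i, U, h1, h2, h3, h4, h5, h6, h7, h8, h9, h10⟩ := exists_open_of_kerRel
    (G := Red.bc (Quot3b.ext k k') G) (N := Red.bc (Quot3b.ext k k') N)
    ((Over.pullback (Quot3b.ext k k')).map n) (Quot3.isNormalHom_bc _ n hN) f hf
  exact Quot3.exists_quot n hN Z' f' h4 U h10

end Groth.Agent.Sga3.H787.GenQuot
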