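import Groth.Agent.Sga3.H787.FlatGen
import Groth.Agent.Sga3C.FlatImage
import Groth.Agent.Sga3C.AffinizationGrp

/-!
# A homomorphism from an algebraic group over a field to an affine group is flat when it is injective
on functions; flatness of the affine hull `G ⟶ Spec 𝒪(G)`.
-/

set_option autoImplicit false
universe u
open CategoryTheory MonoidalCategory CartesianMonoidalCategory MonObj GrpObj AlgebraicGeometry Limits

namespace Groth.Agent.Sga3.H787.FlatAff

open Groth.Agent.Sga3C.FlatPt Groth.Agent.Sga3C.FlatGeneric Groth.Agent.Sga3C.SchemImage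
  Groth.Agent.Sga3C.GrpBasic Groth.Agent.Sga3C.FlatHomog Groth.Agent.Sga3C.KerSquare
  Groth.Agent.Sga3C.GenPts Groth.Agent.Sga3C.FlatImage Groth.Agent.Sga3C.Affinization

/-- A quasi-compact, scheme-theoretically dominant homomorphism with flat kernel, from a flat locally
noetherian group scheme over a one-point base to an arbitrary group scheme, is flat. -/
theorem flat_of_flat_ker {S : Scheme.{u}} {G H : Over S} [GrpObj G] [GrpObj H] [Flat G.hom]
    [Subsingleton S] (u : G ⟶ H) [IsMonHom u]
    (hK : Flat (Limits.pullback.snd u.left (η[H] : 𝟙_ (Over S) ⟶ H).left))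
    [QuasiCompact u.left] [IsSchemeTheoreticallyDominant u.left] [IsLocallyNoetherian G.left] :
    Flat u.left := by
  refine flat_of_forall_isFlatAt _ fun x => ?_
  obtain ⟨z, hz, -⟩ := exists_mem_genericPoints_specializes (u.left x)
  obtain ⟨y, hy⟩ := mem_range_of_mem_genericPoints u.left z hz
  obtain ⟨θ, -, hθ⟩ := exists_act u u (𝟙 H) (Category.comp_id u)
  refine isFlatAt_of_isFlatAt u θ hθ x y (Subsingleton.elim _ _) ?_
  have h1 := flat_fst_self u hK
  have h2 : Flat (pullback.snd u.left u.left) := by
    rw [← pullbackSymmetry_hom_comp_fst]; infer_instance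
  exact Groth.Agent.Sga3.H787.FlatGen.isFlatAt_of_maximal u.left h2 y
    (fun w hw => by rw [hy] at hw ⊢; exact eq_of_specializes_of_mem_genericPoints hz w hw)

/-- a quasi-compact morphism to an affine scheme which is injective on global functions is
scheme-theoretically dominant. -/
theorem dominant_of_injective {X Y : Scheme.{u}} [IsAffine Y] (f : X ⟶ Y) [QuasiCompact f]
    (h : Function.Injective f.appTop) : IsSchemeTheoreticallyDominant f := by
  constructor
  apply Scheme.IdealSheafData.ext_of_isAffine
  rw [Scheme.Hom.ker_apply]
  exact (RingHom.injective_iff_ker_eq_bot _).mp h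

/-- A homomorphism from an algebraic group over a field to an affine group scheme (not necessarily
algebraic) is flat as soon as it is injective on functions. -/
theorem flat_of_injective {k : Type u} [Field k] {G H : Over (Spec (CommRingCat.of k))} [GrpObj G]
    [GrpObj H] [LocallyOfFiniteType G.hom] [QuasiCompact G.hom] [IsAffine H.left] (u : G ⟶ H)
    [IsMonHom u] (h : Function.Injective u.left.appTop) : Flat u.left := by
  have h1 : QuasiCompact (u.left ≫ H.hom) := by rw [Over.w]; infer_instance
  have h2 : QuasiCompact u.left := QuasiCompact.of_comp u.left H.hom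
  have h3 := dominant_of_injective u.left h
  have h4 : IsLocallyNoetherian G.left := LocallyOfFiniteType.isLocallyNoetherian G.hom
  have h5 : Subsingleton ↥(Spec (CommRingCat.of k)) :=
    inferInstanceAs (Subsingleton (PrimeSpectrum k))
  let f : Limits.pullback u.left (η[H] : 𝟙_ (Over (Spec (CommRingCat.of k))) ⟶ H).left ⟶
      Spec (CommRingCat.of k) := Limits.pullback.snd u.left η[H].left
  have h6 : Flat f := inferInstance
  exact flat_of_flat_ker u h6

/-- The affine hull of an algebraic group over a field is flat. -/
theorem flat_toSpecΓ (k : Type u) [Field k] (G : Over (Spec (CommRingCat.of k))) [GrpObj G]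
    [LocallyOfFiniteType G.hom] [QuasiCompact G.hom] : Flat G.left.toSpecΓ := by
  have h1 : CompactSpace G.left := QuasiCompact.compactSpace_of_compactSpace G.hom
  have h2 : IsLocallyNoetherian G.left := LocallyOfFiniteType.isLocallyNoetherian G.hom
  have ha := isAffinization_toAff G
  obtain ⟨_, h3⟩ := Groth.Agent.Sga3C.AffinizationGrp.exists_grpObj ha
  have h4 := ha.isAffine
  have h5 := ha.isIso
  exact flat_of_injective (toAff G) (ConcreteCategory.bijective_of_isIso (toAff G).left.appTop).1

end Groth.Agent.Sga3.H787.FlatAff
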