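import Groth.Agent.Sga3C.FlatImageRing
import Mathlib.RingTheory.Nilpotent.Lemmas
import Mathlib.RingTheory.Noetherian.Nilpotent

/-!
# Flatness over a minimal prime of an arbitrary subring of a noetherian ring

`R → B` injective, `B` noetherian, `B ⊗[R] B` flat over `B` (left factor). Then `B` is flat over `R`
at all primes of `B` lying over minimal primes of `R`. (`R` itself need not be noetherian: the maximal
ideal of `R_q`, `q` minimal, is nilpotent since `R_q` embeds in the noetherian ring `B_q`.)
-/

set_option autoImplicit false

open TensorProduct IsLocalRing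

namespace Groth.Agent.Sga3.H787.FlatRing

open Groth.Agent.Sga3C.FlatImageRing

/-- If `R → B` is injective, `B` is noetherian and all elements of the ideal `I` of `R` are nilpotent
then `I` is nilpotent. -/
theorem isNilpotent_of_injective {R B : Type*} [CommRing R] [CommRing B] [IsNoetherianRing B]
    [Algebra R B] (hinj : Function.Injective (algebraMap R B)) (I : Ideal R) (hI : I ≤ nilradical R) :
    IsNilpotent I := by
  have h1 : I.map (algebraMap R B) ≤ nilradical B := by
    rw [Ideal.map_le_iff_le_comap]
    intro x hx
    have hx' : IsNilpotent x := hI hx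
    exact hx'.map (algebraMap R B)
  obtain ⟨n, hn⟩ := IsNoetherianRing.isNilpotent_nilradical B
  refine ⟨n, ?_⟩
  have h2 : (I ^ n).map (algebraMap R B) = ⊥ := by
    rw [Ideal.map_pow, eq_bot_iff]
    exact (Ideal.pow_right_mono h1 n).trans (by rw [hn]; exact le_rfl)
  exact (Ideal.map_eq_bot_iff_of_injective hinj).mp h2

attribute [local instance] Algebra.TensorProduct.rightAlgebra in
/-- If `R → B` is injective, `B` is noetherian and `B ⊗[R] B` is flat over (the left factor) `B`, then
`B` is flat over `R` at all primes of `B` lying over a minimal prime of `R`. -/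
theorem flat_localization_of_minimalPrimes {R B : Type*} [CommRing R] [CommRing B] [IsNoetherianRing B]
    [Algebra R B] (hinj : Function.Injective (algebraMap R B)) [hflat : Module.Flat B (B ⊗[R] B)]
    (P : Ideal B) [P.IsPrime] (hP : P.comap (algebraMap R B) ∈ minimalPrimes R)
    (BP : Type*) [CommRing BP] [Algebra B BP] [Algebra R BP] [IsScalarTower R B BP]
    [IsLocalization.AtPrime BP P] :
    Module.Flat R BP := by
  let q : Ideal R := P.comap (algebraMap R B)
  have hq : q ∈ minimalPrimes R := hP
  have : q.IsPrime := Ideal.comap_isPrime _ _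
  let R' := Localization.AtPrime q
  let B' := R' ⊗[R] B
  have : Module.Flat R R' := IsLocalization.flat R' q.primeCompl
  have hloc : IsLocalization (Algebra.algebraMapSubmonoid B q.primeCompl) B' := inferInstance
  have hnoethB : IsNoetherianRing B' :=
    IsLocalization.isNoetherianRing (Algebra.algebraMapSubmonoid B q.primeCompl) B' inferInstance
  have hinj' : Function.Injective (algebraMap R' B') :=
    Algebra.TensorProduct.includeLeft_injective (S := R') hinj
  -- `R'` is local of dimension zero
  have hdim : Ring.KrullDimLE 0 R' := Ring.KrullDimLE.of_isLocalization q hq R'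
  have hnil : IsNilpotent (maximalIdeal R') := by
    refine isNilpotent_of_injective hinj' _ ?_
    intro x hx
    rw [mem_nilradical]
    exact (Ring.KrullDimLE.isNilpotent_iff_mem_maximalIdeal (R := R')).mpr hx
  have e1 : B' ⊗[R'] (R' ⊗[R] B) ≃ₗ[B'] B' ⊗[R] B :=
    TensorProduct.AlgebraTensorModule.cancelBaseChange R R' B' B' B
  have e2 : B' ⊗[B] (B ⊗[R] B) ≃ₗ[B'] B' ⊗[R] B :=
    TensorProduct.AlgebraTensorModule.cancelBaseChange R B B' B' B
  have h1 : Module.Flat B' (B' ⊗[B] (B ⊗[R] B)) := inferInstance
  have h2 : Module.Flat B' (B' ⊗[R'] B') := Module.Flat.of_linearEquiv (e1.trans e2.symm)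
  have h3 : Module.Free R' B' := free_of_injective_of_flat_tensor hnil hinj'
  -- `B_P` is a `B'`-algebra
  have hunit : ∀ y : q.primeCompl, IsUnit (algebraMap R BP y) := by
    rintro ⟨y, hy⟩
    rw [IsScalarTower.algebraMap_apply R B BP]
    exact IsLocalization.map_units BP (⟨algebraMap R B y, hy⟩ : P.primeCompl)
  let f : R' →ₐ[R] BP := IsLocalization.liftAlgHom (M := q.primeCompl) (f := Algebra.ofId R BP) hunit
  let g : B' →ₐ[R] BP := Algebra.TensorProduct.lift f (IsScalarTower.toAlgHom R B BP)
    (fun _ _ => Commute.all _ _)
  let _ : Algebra B' BP := g.toRingHom.toAlgebra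
  have : IsScalarTower B B' BP := IsScalarTower.of_algebraMap_eq fun b => by
    have : g (1 ⊗ₜ b) = algebraMap B BP b :=
      DFunLike.congr_fun (Algebra.TensorProduct.lift_comp_includeRight f
        (IsScalarTower.toAlgHom R B BP) (fun _ _ => Commute.all _ _)) b
    exact this.symm
  have : IsScalarTower R B' BP := IsScalarTower.of_algebraMap_eq fun b => by
    exact (g.commutes b).symm
  have h4 : Module.Flat B' BP :=
    (Module.flat_iff_of_isLocalization B' (Algebra.algebraMapSubmonoid B q.primeCompl) BP).mpr
      (IsLocalization.flat BP P.primeCompl)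
  have h5 : Module.Flat R B' := Module.Flat.trans R R' B'
  exact Module.Flat.trans R B' BP

end Groth.Agent.Sga3.H787.FlatRing
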