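import Groth.Agent.Sga3.H787.GenPt
import Groth.Agent.Sga3C.FlatGeneric
import Mathlib.AlgebraicGeometry.Morphisms.SchemeTheoreticallyDominant

/-!
# Generic factorization

Let `φ : X ⟶ W` be quasi-compact and scheme theoretically dominant, `W` locally noetherian and
`X ×_W X ⟶ X` flat, and let `ψ : X ⟶ W'` be compatible with the kernel relation of `φ`.  Then `ψ`
factors through `φ` over a neighbourhood of every maximal point of `W`.
-/

set_option autoImplicit false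
universe u

open CategoryTheory CategoryTheory.Limits AlgebraicGeometry

namespace Groth.Agent.Sga3.H787.GenBir

open Groth.Agent.Sga3C.FlatPt Groth.Agent.Sga3.H787.GenPt

variable {X W W' S : Scheme.{u}}

/-- Two morphisms to a separated scheme which agree after composition with a schematically dominant
morphism are equal. -/
theorem ext_of_schemeDominant {X Y Z S : Scheme.{u}} (q : Z ⟶ X) [IsSchemeTheoreticallyDominant q]
    (s : Y ⟶ S) [IsSeparated s] (f g : X ⟶ Y) (hs : f ≫ s = g ≫ s) (h : q ≫ f = q ≫ g) : f = g := by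
  let X' : Over S := Over.mk (f ≫ s)
  let Y' : Over S := Over.mk s
  let f' : X' ⟶ Y' := Over.homMk f rfl
  let g' : X' ⟶ Y' := Over.homMk g hs.symm
  let Z' : Over S := Over.mk (q ≫ f ≫ s)
  let q' : Z' ⟶ X' := Over.homMk q rfl
  have hY : IsSeparated Y'.hom := ‹IsSeparated s›
  have hq' : IsSchemeTheoreticallyDominant q'.left := ‹IsSchemeTheoreticallyDominant q›
  have hqq : q' ≫ f' = q' ≫ g' := by ext1; exact h
  obtain ⟨l, hl⟩ := Groth.Agent.Sga3C.SchemImage.exists_lift_over q' (𝟙 X') (equalizer.ι f' g')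
    (equalizer.lift q' hqq) (by simp)
  have : f' = g' := by
    have h1 := congrArg (l ≫ ·) (equalizer.condition f' g')
    simp only [← Category.assoc] at h1
    rwa [hl, Category.id_comp, Category.id_comp] at h1
  exact congrArg (fun t => t.left) this

/-- Factorization over the local ring at a maximal point. -/
theorem exists_stalk_fac (φ : X ⟶ W) (ψ : X ⟶ W') [QuasiCompact φ]
    [IsSchemeTheoreticallyDominant φ] [IsLocallyNoetherian W] (hfl : Flat (pullback.snd φ φ))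
    (hrel : ∀ (T : Scheme.{u}) (a b : T ⟶ X), a ≫ φ = b ≫ φ → a ≫ ψ = b ≫ ψ)
    (w : W ⟶ S) (w' : W' ⟶ S) (hw : φ ≫ w = ψ ≫ w') {w₀ : W} (h₀ : Mx w₀) :
    ∃ s : Spec (W.presheaf.stalk w₀) ⟶ W', s ≫ w' = W.fromSpecStalk w₀ ≫ w ∧
      pullback.snd φ (W.fromSpecStalk w₀) ≫ s = pullback.fst φ (W.fromSpecStalk w₀) ≫ ψ := by
  have hj : ∀ y, W.fromSpecStalk w₀ y = w₀ := by
    intro y
    apply h₀
    have : W.fromSpecStalk w₀ y ∈ Set.range (W.fromSpecStalk w₀) := ⟨y, rfl⟩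
    rwa [Scheme.range_fromSpecStalk] at this
  have h1 : Flat (pullback.snd φ (W.fromSpecStalk w₀)) := by
    apply flat_of_forall_isFlatAt
    intro t
    refine IsFlatAt.of_isPullback (IsPullback.of_hasPullback φ (W.fromSpecStalk w₀)) t ?_
    refine Groth.Agent.Sga3C.FlatGeneric.isFlatAt_of_maximal φ hfl _ ?_
    rw [← Scheme.Hom.comp_apply, pullback.condition, Scheme.Hom.comp_apply, hj]
    exact h₀
  have h2 : Surjective (pullback.snd φ (W.fromSpecStalk w₀)) := by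
    constructor
    intro y
    obtain ⟨x, -, hx⟩ := exists_mx_of_dominant φ h₀
    obtain ⟨t, -, ht⟩ := Scheme.Pullback.exists_preimage_pullback x y (by rw [hx, hj])
    exact ⟨t, ht⟩
  have h3 : ∀ {T : Scheme.{u}} (a b : T ⟶ pullback φ (W.fromSpecStalk w₀)),
      a ≫ pullback.snd φ (W.fromSpecStalk w₀) = b ≫ pullback.snd φ (W.fromSpecStalk w₀) →
      a ≫ pullback.fst φ (W.fromSpecStalk w₀) ≫ ψ = b ≫ pullback.fst φ (W.fromSpecStalk w₀) ≫ ψ := by
    intro T a b hab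
    rw [← Category.assoc, ← Category.assoc]
    apply hrel
    rw [Category.assoc, Category.assoc, pullback.condition, ← Category.assoc, hab, Category.assoc]
  have h4 := EffectiveEpi.fac (pullback.snd φ (W.fromSpecStalk w₀)) _ h3
  refine ⟨EffectiveEpi.desc (pullback.snd φ (W.fromSpecStalk w₀)) _ h3, ?_, h4⟩
  rw [← cancel_epi (pullback.snd φ (W.fromSpecStalk w₀)), ← Category.assoc, h4, Category.assoc,
    ← hw, ← Category.assoc, pullback.condition, Category.assoc]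

/-- Generic factorization through `φ`, near a maximal point of `W`. -/
theorem exists_fac (φ : X ⟶ W) (ψ : X ⟶ W') [QuasiCompact φ]
    [IsSchemeTheoreticallyDominant φ] [IsLocallyNoetherian W] (hfl : Flat (pullback.snd φ φ))
    (hrel : ∀ (T : Scheme.{u}) (a b : T ⟶ X), a ≫ φ = b ≫ φ → a ≫ ψ = b ≫ ψ)
    (w : W ⟶ S) (w' : W' ⟶ S) [IsSeparated w'] [LocallyOfFiniteType w'] [QuasiCompact w']
    (hw : φ ≫ w = ψ ≫ w') {w₀ : W} (h₀ : Mx w₀) :
    ∃ (U : W.Opens) (_ : w₀ ∈ U) (θ : U.toScheme ⟶ W'), θ ≫ w' = U.ι ≫ w ∧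
      (φ ∣_ U) ≫ θ = (φ ⁻¹ᵁ U).ι ≫ ψ := by
  obtain ⟨s, hs, hs'⟩ := exists_stalk_fac φ ψ hfl hrel w w' hw h₀
  obtain ⟨U, hU, θ, hθ, hθ'⟩ := spread_out_of_isGermInjective' w w' s hs
  -- the schematic image `Γ` of `(φ, ψ)`
  let m : X ⟶ pullback w w' := pullback.lift φ ψ hw
  have hmφ : m ≫ pullback.fst w w' = φ := pullback.lift_fst _ _ _
  have hmψ : m ≫ pullback.snd w w' = ψ := pullback.lift_snd _ _ _
  have hqm : QuasiCompact m := by
    have : QuasiCompact (m ≫ pullback.fst w w') := by rw [hmφ]; infer_instance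
    exact QuasiCompact.of_comp m (pullback.fst w w')
  let Γ := m.image
  let ρ : X ⟶ Γ := m.toImage
  have hρ : IsSchemeTheoreticallyDominant ρ := Groth.Agent.Sga3C.SchemImage.dominant_toImage m
  have hρq : QuasiCompact ρ := inferInstanceAs (QuasiCompact m.toImage)
  let γ : Γ ⟶ W := m.imageι ≫ pullback.fst w w'
  let δ : Γ ⟶ W' := m.imageι ≫ pullback.snd w w'
  have hργ : ρ ≫ γ = φ := by rw [← Category.assoc, Scheme.Hom.toImage_imageι, hmφ]
  have hρδ : ρ ≫ δ = ψ := by rw [← Category.assoc, Scheme.Hom.toImage_imageι, hmψ]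
  have hγδ : γ ≫ w = δ ≫ w' := by
    simp only [γ, δ, Category.assoc, pullback.condition]
  have hγl : LocallyOfFiniteType γ := inferInstance
  have hγq : QuasiCompact γ := inferInstance
  have hΓ : IsLocallyNoetherian Γ := LocallyOfFiniteType.isLocallyNoetherian γ
  -- the two morphisms to be compared
  let Γ' := (γ ⁻¹ᵁ U).toScheme
  let a : Γ' ⟶ W' := (γ ∣_ U) ≫ θ
  let b : Γ' ⟶ W' := (γ ⁻¹ᵁ U).ι ≫ δ
  have hab : a ≫ w' = b ≫ w' := by
    simp only [a, b, Category.assoc, hθ', ← hγδ, morphismRestrict_ι_assoc]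
  have key : ∀ z : Γ', γ ((γ ⁻¹ᵁ U).ι z) = w₀ → ∃ E : Γ'.Opens, z ∈ E ∧ E.ι ≫ a = E.ι ≫ b := by
    intro z hz
    refine spread_out_unique_of_isGermInjective' a b ?_
    let g : Γ' ⟶ W := (γ ⁻¹ᵁ U).ι ≫ γ
    have hg : g z ⤳ w₀ := by
      rw [Scheme.Hom.comp_apply, hz]
    let e : Spec (Γ'.presheaf.stalk z) ⟶ Spec (W.presheaf.stalk w₀) :=
      Spec.map (g.stalkMap z) ≫ Spec.map (W.presheaf.stalkSpecializes hg)
    have he : e ≫ W.fromSpecStalk w₀ = Γ'.fromSpecStalk z ≫ g := by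
      rw [Category.assoc, Scheme.SpecMap_stalkSpecializes_fromSpecStalk,
        Scheme.SpecMap_stalkMap_fromSpecStalk]
    have he' : e ≫ s = Γ'.fromSpecStalk z ≫ a := by
      have h5 : e ≫ U.fromSpecStalkOfMem w₀ hU = Γ'.fromSpecStalk z ≫ (γ ∣_ U) := by
        rw [← cancel_mono U.ι, Category.assoc, Scheme.Opens.fromSpecStalkOfMem_ι, he,
          Category.assoc, morphismRestrict_ι]
      rw [hθ, ← Category.assoc, h5, Category.assoc]
    let c : Spec (Γ'.presheaf.stalk z) ⟶ Γ := Γ'.fromSpecStalk z ≫ (γ ⁻¹ᵁ U).ι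
    have hc : Flat c := by
      have := flat_fromSpecStalk Γ' z
      infer_instance
    refine ext_of_schemeDominant (pullback.snd ρ c) w' _ _ (by simp only [Category.assoc, hab]) ?_
    let y : pullback ρ c ⟶ pullback φ (W.fromSpecStalk w₀) :=
      pullback.lift (pullback.fst ρ c) (pullback.snd ρ c ≫ e) (by
        rw [Category.assoc (pullback.snd ρ c) e, he, ← hργ, ← Category.assoc, pullback.condition]
        simp only [c, g, Category.assoc])
    have h6 : y ≫ pullback.snd φ (W.fromSpecStalk w₀) ≫ s =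
        y ≫ pullback.fst φ (W.fromSpecStalk w₀) ≫ ψ := by rw [hs']
    rw [← Category.assoc, ← Category.assoc, pullback.lift_snd, pullback.lift_fst, Category.assoc,
      he', ← hρδ, ← Category.assoc (pullback.fst ρ c), pullback.condition] at h6
    rw [h6]
    simp only [c, b, Category.assoc]
  choose! E hE hE' using key
  -- the closed subset where they are not known to agree
  let F : Γ.Opens := ⨆ z : {z : Γ' // γ ((γ ⁻¹ᵁ U).ι z) = w₀}, (γ ⁻¹ᵁ U).ι ''ᵁ (E z.1)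
  have hF : ∀ z : Γ, γ z = w₀ → z ∈ F := by
    intro z hz
    have hzU : z ∈ γ ⁻¹ᵁ U := by
      change γ z ∈ U
      rw [hz]; exact hU
    refine TopologicalSpace.Opens.mem_iSup.mpr ⟨⟨⟨z, hzU⟩, hz⟩, ?_⟩
    exact ⟨⟨z, hzU⟩, hE ⟨z, hzU⟩ hz, rfl⟩
  let C : TopologicalSpace.Closeds Γ := ⟨(F : Set Γ)ᶜ, F.2.isClosed_compl⟩
  let ι : (Scheme.IdealSheafData.vanishingIdeal C).subscheme ⟶ Γ :=
    (Scheme.IdealSheafData.vanishingIdeal C).subschemeι
  have hι : Set.range ι = (F : Set Γ)ᶜ := by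
    rw [Scheme.IdealSheafData.range_subschemeι, Scheme.IdealSheafData.coe_support_vanishingIdeal]
    rfl
  have hιw : w₀ ∉ closure (Set.range (ι ≫ γ)) := by
    intro h
    obtain ⟨x, hx⟩ := Groth.Agent.Sga3C.GenPts.mem_range_of_mem_closure_range (ι ≫ γ) w₀ h h₀
    rw [Scheme.Hom.comp_apply] at hx
    have h7 : ι x ∈ Set.range ι := ⟨x, rfl⟩
    rw [hι] at h7
    exact h7 (hF _ hx)
  let U' : W.Opens := U ⊓ ⟨(closure (Set.range (ι ≫ γ)))ᶜ, isClosed_closure.isOpen_compl⟩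
  have hU'U : U' ≤ U := inf_le_left
  refine ⟨U', ⟨hU, hιw⟩, W.homOfLE hU'U ≫ θ, ?_, ?_⟩
  · rw [Category.assoc, hθ', Scheme.homOfLE_ι_assoc]
  · refine Scheme.hom_ext_of_forall _ _ fun x => ?_
    -- the point `ρ x` of `Γ` lies in `F`
    have hx : φ ((φ ⁻¹ᵁ U').ι x) ∈ U' := x.2
    have hxF : ρ ((φ ⁻¹ᵁ U').ι x) ∈ F := by
      by_contra hcon
      have h8 : ρ ((φ ⁻¹ᵁ U').ι x) ∈ Set.range ι := by rw [hι]; exact hcon
      obtain ⟨t, ht⟩ := h8
      apply hx.2
      apply subset_closure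
      refine ⟨t, ?_⟩
      rw [Scheme.Hom.comp_apply, ht, ← Scheme.Hom.comp_apply, hργ]
    obtain ⟨⟨z, hz⟩, hzF⟩ := TopologicalSpace.Opens.mem_iSup.mp hxF
    -- the morphism `φ⁻¹ U' ⟶ Γ'`
    let r : (φ ⁻¹ᵁ U').toScheme ⟶ Γ' := IsOpenImmersion.lift (γ ⁻¹ᵁ U).ι ((φ ⁻¹ᵁ U').ι ≫ ρ) (by
      rw [Scheme.Opens.range_ι]
      rintro _ ⟨t, rfl⟩
      have h10 : ((φ ⁻¹ᵁ U').ι ≫ ρ) ≫ γ = (φ ⁻¹ᵁ U').ι ≫ φ := by rw [Category.assoc, hργ]
      have h11 : γ (((φ ⁻¹ᵁ U').ι ≫ ρ) t) = φ ((φ ⁻¹ᵁ U').ι t) := congr($h10 t)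
      change γ (((φ ⁻¹ᵁ U').ι ≫ ρ) t) ∈ U
      rw [h11]
      exact hU'U t.2)
    have hr : r ≫ (γ ⁻¹ᵁ U).ι = (φ ⁻¹ᵁ U').ι ≫ ρ := IsOpenImmersion.lift_fac _ _ _
    have hra : r ≫ a = (φ ∣_ U') ≫ W.homOfLE hU'U ≫ θ := by
      have h9 : r ≫ (γ ∣_ U) = (φ ∣_ U') ≫ W.homOfLE hU'U := by
        rw [← cancel_mono U.ι, Category.assoc, Category.assoc, morphismRestrict_ι,
          Scheme.homOfLE_ι, morphismRestrict_ι, ← Category.assoc, hr, Category.assoc, hργ]
      simp only [a]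
      rw [← Category.assoc, h9, Category.assoc]
    have hrb : r ≫ b = (φ ⁻¹ᵁ U').ι ≫ ψ := by
      simp only [b]
      rw [← Category.assoc, hr, Category.assoc, hρδ]
    refine ⟨r ⁻¹ᵁ (E z), ?_, ?_⟩
    · obtain ⟨z', hz'1, hz'2⟩ := hzF
      change r x ∈ E z
      have : r x = z' := by
        apply (γ ⁻¹ᵁ U).ι.isOpenEmbedding.injective
        refine Eq.trans ?_ hz'2.symm
        exact congr($hr x)
      rw [this]
      exact hz'1
    · rw [← hra, ← hrb, ← morphismRestrict_ι_assoc, ← morphismRestrict_ι_assoc, hE' z hz]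

end Groth.Agent.Sga3.H787.GenBir
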