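import Groth.Agent.Sga3.H787.GenKR
import Mathlib.CategoryTheory.Monoidal.Cartesian.Grp

/-!
# Morphisms from a group scheme whose kernel relation is a congruence

`Congr f`: the kernel relation `a ≫ f = b ≫ f` of `f : G ⟶ Z` is compatible with the group law.
-/

set_option autoImplicit false
universe u v

open CategoryTheory MonoidalCategory CartesianMonoidalCategory MonObj GrpObj AlgebraicGeometry Limits

namespace Groth.Agent.Sga3.H787.GenCongr

section Cat

variable {C : Type u} [Category.{v} C] [CartesianMonoidalCategory C]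

/-- The kernel relation of `f : G ⟶ Z` is a congruence for the group law. -/
structure Congr {G Z : C} [GrpObj G] (f : G ⟶ Z) : Prop where
  left : ∀ (T : C) (g a b : T ⟶ G), a ≫ f = b ≫ f → (g * a) ≫ f = (g * b) ≫ f
  right : ∀ (T : C) (g a b : T ⟶ G), a ≫ f = b ≫ f → (a * g) ≫ f = (b * g) ≫ f

variable {G Z : C} [GrpObj G] {f : G ⟶ Z}

theorem Congr.mul (h : Congr f) {T : C} {a b a' b' : T ⟶ G} (h1 : a ≫ f = b ≫ f)
    (h2 : a' ≫ f = b' ≫ f) : (a * a') ≫ f = (b * b') ≫ f :=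
  (h.right T a' a b h1).trans (h.left T b a' b' h2)

theorem Congr.inv (h : Congr f) {T : C} {a b : T ⟶ G} (h1 : a ≫ f = b ≫ f) :
    a⁻¹ ≫ f = b⁻¹ ≫ f := by
  have h2 := h.right T b⁻¹ _ _ (h.left T a⁻¹ b a h1.symm)
  rwa [_root_.mul_assoc, mul_inv_cancel, _root_.mul_one, inv_mul_cancel, _root_.one_mul] at h2

theorem Congr.div_iff (h : Congr f) {T : C} {a b : T ⟶ G} :
    a ≫ f = b ≫ f ↔ (a⁻¹ * b) ≫ f = (1 : T ⟶ G) ≫ f := by
  constructor
  · intro h1
    have h2 := h.left T a⁻¹ _ _ h1.symm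
    rwa [inv_mul_cancel] at h2
  · intro h1
    have h2 := h.left T a _ _ h1
    rw [mul_inv_cancel_left, _root_.mul_one] at h2
    exact h2.symm

/-- `(g, h) ↦ (g, g h)` -/
def sh₁ (G : C) [GrpObj G] : G ⊗ G ≅ G ⊗ G where
  hom := lift (fst G G) (fst G G * snd G G)
  inv := lift (fst G G) ((fst G G)⁻¹ * snd G G)
  hom_inv_id := by
    ext1
    · simp
    · simp only [comp_lift, lift_fst, comp_mul, comp_inv, lift_snd, Category.id_comp,
        inv_mul_cancel_left]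
  inv_hom_id := by
    ext1
    · simp
    · simp only [comp_lift, lift_fst, comp_mul, lift_snd, Category.id_comp, mul_inv_cancel_left]

/-- `(g, h) ↦ (g h, h)` -/
def sh₂ (G : C) [GrpObj G] : G ⊗ G ≅ G ⊗ G where
  hom := lift (fst G G * snd G G) (snd G G)
  inv := lift (fst G G * (snd G G)⁻¹) (snd G G)
  hom_inv_id := by
    ext1
    · simp only [comp_lift, lift_fst, comp_mul, comp_inv, lift_snd, Category.id_comp,
        mul_inv_cancel_right]
    · simp
  inv_hom_id := by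
    ext1
    · simp only [comp_lift, lift_fst, comp_mul, lift_snd, Category.id_comp, inv_mul_cancel_right]
    · simp

@[simp] theorem sh₁_hom_fst (G : C) [GrpObj G] : (sh₁ G).hom ≫ fst G G = fst G G := by simp [sh₁]
@[simp] theorem sh₁_hom_snd (G : C) [GrpObj G] : (sh₁ G).hom ≫ snd G G = fst G G * snd G G := by
  simp [sh₁]
@[simp] theorem sh₁_inv_fst (G : C) [GrpObj G] : (sh₁ G).inv ≫ fst G G = fst G G := by simp [sh₁]
@[simp] theorem sh₁_inv_snd (G : C) [GrpObj G] :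
    (sh₁ G).inv ≫ snd G G = (fst G G)⁻¹ * snd G G := by simp [sh₁]
@[simp] theorem sh₂_hom_fst (G : C) [GrpObj G] : (sh₂ G).hom ≫ fst G G = fst G G * snd G G := by
  simp [sh₂]
@[simp] theorem sh₂_hom_snd (G : C) [GrpObj G] : (sh₂ G).hom ≫ snd G G = snd G G := by simp [sh₂]
@[simp] theorem sh₂_inv_fst (G : C) [GrpObj G] :
    (sh₂ G).inv ≫ fst G G = fst G G * (snd G G)⁻¹ := by simp [sh₂]
@[simp] theorem sh₂_inv_snd (G : C) [GrpObj G] : (sh₂ G).inv ≫ snd G G = snd G G := by simp [sh₂]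

/-- equality after `f ⊗ₘ f` -/
theorem comp_tensorHom_eq_iff {X Y X' Y' T : C} (f : X ⟶ X') (g : Y ⟶ Y') (a b : T ⟶ X ⊗ Y) :
    a ≫ (f ⊗ₘ g) = b ≫ (f ⊗ₘ g) ↔
      (a ≫ fst X Y) ≫ f = (b ≫ fst X Y) ≫ f ∧ (a ≫ snd X Y) ≫ g = (b ≫ snd X Y) ≫ g := by
  constructor
  · intro h
    have h1 := congrArg (· ≫ fst X' Y') h
    have h2 := congrArg (· ≫ snd X' Y') h
    simp only [Category.assoc, tensorHom_fst, tensorHom_snd] at h1 h2 ⊢
    exact ⟨h1, h2⟩
  · rintro ⟨h1, h2⟩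
    simp only [Category.assoc] at h1 h2
    ext1
    · simpa using h1
    · simpa using h2

theorem Congr.sh₁_hom (h : Congr f) {T : C} {a b : T ⟶ G ⊗ G} (hab : a ≫ (f ⊗ₘ f) = b ≫ (f ⊗ₘ f)) :
    a ≫ (sh₁ G).hom ≫ (f ⊗ₘ f) = b ≫ (sh₁ G).hom ≫ (f ⊗ₘ f) := by
  rw [comp_tensorHom_eq_iff] at hab
  obtain ⟨h1, h2⟩ := hab
  rw [← Category.assoc, ← Category.assoc, comp_tensorHom_eq_iff]
  simp only [Category.assoc, sh₁_hom_fst, sh₁_hom_snd] at *
  refine ⟨h1, ?_⟩
  rw [← Category.assoc, ← Category.assoc, comp_mul, comp_mul]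
  exact h.mul (by simpa using h1) (by simpa using h2)

theorem Congr.sh₁_inv (h : Congr f) {T : C} {a b : T ⟶ G ⊗ G} (hab : a ≫ (f ⊗ₘ f) = b ≫ (f ⊗ₘ f)) :
    a ≫ (sh₁ G).inv ≫ (f ⊗ₘ f) = b ≫ (sh₁ G).inv ≫ (f ⊗ₘ f) := by
  rw [comp_tensorHom_eq_iff] at hab
  obtain ⟨h1, h2⟩ := hab
  rw [← Category.assoc, ← Category.assoc, comp_tensorHom_eq_iff]
  simp only [Category.assoc, sh₁_inv_fst, sh₁_inv_snd] at *
  refine ⟨h1, ?_⟩
  rw [← Category.assoc, ← Category.assoc, comp_mul, comp_mul, comp_inv, comp_inv]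
  exact h.mul (h.inv (by simpa using h1)) (by simpa using h2)

theorem Congr.sh₂_hom (h : Congr f) {T : C} {a b : T ⟶ G ⊗ G} (hab : a ≫ (f ⊗ₘ f) = b ≫ (f ⊗ₘ f)) :
    a ≫ (sh₂ G).hom ≫ (f ⊗ₘ f) = b ≫ (sh₂ G).hom ≫ (f ⊗ₘ f) := by
  rw [comp_tensorHom_eq_iff] at hab
  obtain ⟨h1, h2⟩ := hab
  rw [← Category.assoc, ← Category.assoc, comp_tensorHom_eq_iff]
  simp only [Category.assoc, sh₂_hom_fst, sh₂_hom_snd] at *
  refine ⟨?_, h2⟩
  rw [← Category.assoc, ← Category.assoc, comp_mul, comp_mul]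
  exact h.mul (by simpa using h1) (by simpa using h2)

theorem Congr.sh₂_inv (h : Congr f) {T : C} {a b : T ⟶ G ⊗ G} (hab : a ≫ (f ⊗ₘ f) = b ≫ (f ⊗ₘ f)) :
    a ≫ (sh₂ G).inv ≫ (f ⊗ₘ f) = b ≫ (sh₂ G).inv ≫ (f ⊗ₘ f) := by
  rw [comp_tensorHom_eq_iff] at hab
  obtain ⟨h1, h2⟩ := hab
  rw [← Category.assoc, ← Category.assoc, comp_tensorHom_eq_iff]
  simp only [Category.assoc, sh₂_inv_fst, sh₂_inv_snd] at *
  refine ⟨?_, h2⟩
  rw [← Category.assoc, ← Category.assoc, comp_mul, comp_mul, comp_inv, comp_inv]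
  exact h.mul (by simpa using h1) (h.inv (by simpa using h2))

/-- The product congruence. -/
theorem Congr.tensor [BraidedCategory C] (h : Congr f) : Congr (f ⊗ₘ f) where
  left T g a b hab := by
    rw [comp_tensorHom_eq_iff] at hab ⊢
    obtain ⟨h1, h2⟩ := hab
    have e1 : ∀ x y : T ⟶ G ⊗ G, (x * y) ≫ fst G G = (x ≫ fst G G) * (y ≫ fst G G) :=
      fun x y => mul_comp x y _
    have e2 : ∀ x y : T ⟶ G ⊗ G, (x * y) ≫ snd G G = (x ≫ snd G G) * (y ≫ snd G G) :=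
      fun x y => mul_comp x y _
    rw [e1, e1, e2, e2]
    exact ⟨h.left _ _ _ _ h1, h.left _ _ _ _ h2⟩
  right T g a b hab := by
    rw [comp_tensorHom_eq_iff] at hab ⊢
    obtain ⟨h1, h2⟩ := hab
    have e1 : ∀ x y : T ⟶ G ⊗ G, (x * y) ≫ fst G G = (x ≫ fst G G) * (y ≫ fst G G) :=
      fun x y => mul_comp x y _
    have e2 : ∀ x y : T ⟶ G ⊗ G, (x * y) ≫ snd G G = (x ≫ snd G G) * (y ≫ snd G G) :=
      fun x y => mul_comp x y _
    rw [e1, e1, e2, e2]
    exact ⟨h.right _ _ _ _ h1, h.right _ _ _ _ h2⟩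

/-- The kernel pair of `f` is isomorphic to `G × f⁻¹(f(1))`. -/
theorem Congr.isPullback (h : Congr f) {K E : C} {k : K ⟶ G}
    (hK : IsPullback k (toUnit K) f (η[G] ≫ f)) {p₁ p₂ : E ⟶ G} (hE : IsPullback p₁ p₂ f f) :
    ∃ d : E ⟶ K, d ≫ k = p₁⁻¹ * p₂ ∧ IsPullback p₁ d (toUnit G) (toUnit K) := by
  have hη : ∀ T : C, toUnit T ≫ η[G] ≫ f = (1 : T ⟶ G) ≫ f := by
    intro T
    rw [← Category.assoc, Hom.one_def]
  have h1 : (p₁⁻¹ * p₂) ≫ f = toUnit E ≫ η[G] ≫ f := by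
    rw [hη]
    exact h.div_iff.mp hE.w
  refine ⟨hK.lift _ _ h1, hK.lift_fst _ _ _, ⟨⟨toUnit_unique _ _⟩, ⟨?_⟩⟩⟩
  refine Limits.PullbackCone.IsLimit.mk _
    (fun s => hE.lift s.fst (s.fst * (s.snd ≫ k)) ?_) ?_ ?_ ?_
  · rw [h.div_iff, inv_mul_cancel_left, Category.assoc, hK.w, ← Category.assoc,
      toUnit_unique (s.snd ≫ toUnit K) (toUnit _), hη]
  · intro s
    simp
  · intro s
    apply hK.hom_ext
    · simp [comp_mul, GrpObj.comp_inv]
    · exact toUnit_unique _ _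
  · intro s m h1 h2
    apply hE.hom_ext
    · simp [h1]
    · simp only [IsPullback.lift_snd]
      rw [← h1, ← h2, Category.assoc, IsPullback.lift_fst, comp_mul, GrpObj.comp_inv,
        mul_inv_cancel_left]

/-- The congruence attached to a normal subgroup. -/
theorem congr_of_normal {G N Z : C} [GrpObj G] [GrpObj N] (n : N ⟶ G) [IsMonHom n] (f : G ⟶ Z)
    (hN : ∀ (T : C) (g : T ⟶ G) (c : T ⟶ N), ∃ c' : T ⟶ N, g * (c ≫ n) * g⁻¹ = c' ≫ n)
    (hf : ∀ (T : C) (a b : T ⟶ G), a ≫ f = b ≫ f ↔ ∃ c : T ⟶ N, c ≫ n = a⁻¹ * b) : Congr f where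
  left T g a b hab := by
    obtain ⟨c, hc⟩ := (hf T a b).mp hab
    exact (hf T _ _).mpr ⟨c, by rw [hc]; group⟩
  right T g a b hab := by
    obtain ⟨c, hc⟩ := (hf T a b).mp hab
    obtain ⟨c', hc'⟩ := hN T g⁻¹ c
    exact (hf T _ _).mpr ⟨c', by rw [← hc', hc]; group⟩

end Cat

variable {S : Scheme.{u}}

theorem rel_left {X Y Z : Over S} (f : X ⟶ Y) (g : X ⟶ Z)
    (h : ∀ (T : Over S) (a b : T ⟶ X), a ≫ f = b ≫ f → a ≫ g = b ≫ g) (T : Scheme.{u})
    (a b : T ⟶ X.left) (hab : a ≫ f.left = b ≫ f.left) : a ≫ g.left = b ≫ g.left := by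
  have h2 : b ≫ X.hom = a ≫ X.hom := by
    rw [← Over.w f, ← Category.assoc, ← Category.assoc, hab]
  let T' : Over S := Over.mk (a ≫ X.hom)
  have := h T' (Over.homMk a rfl) (Over.homMk b h2) (by ext1; exact hab)
  exact congrArg (fun z => Over.Hom.left z) this

/-- The kernel pair of `f` is flat over `G`, over a field. -/
theorem Congr.flat_snd {k : Type u} [Field k] {G Z : Over (Spec (CommRingCat.of k))} [GrpObj G]
    {f : G ⟶ Z} (h : Congr f) : Flat (pullback.snd f.left f.left) := by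
  let η' : Spec (CommRingCat.of k) ⟶ Z.left := (η[G] ≫ f).left
  have hη' : η' ≫ Z.hom = 𝟙 _ := Over.w (η[G] ≫ f)
  let K : Over (Spec (CommRingCat.of k)) := Over.mk (pullback.snd f.left η')
  let κ : K ⟶ G := Over.homMk (pullback.fst f.left η') (by
    have h := pullback.condition (f := f.left) (g := η') =≫ Z.hom
    simp only [Category.assoc, hη', Over.w] at h
    simpa [K] using h)
  let E : Over (Spec (CommRingCat.of k)) := Over.mk (pullback.fst f.left f.left ≫ G.hom)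
  let p₁ : E ⟶ G := Over.homMk (pullback.fst f.left f.left) rfl
  let p₂ : E ⟶ G := Over.homMk (pullback.snd f.left f.left) (by
    have h := pullback.condition (f := f.left) (g := f.left) =≫ Z.hom
    simp only [Category.assoc, Over.w] at h
    simpa [E] using h.symm)
  have hK : IsPullback κ (toUnit K) f (η[G] ≫ f) := by
    refine IsPullback.of_map (Over.forget _) ?_ ?_
    · ext1
      exact pullback.condition (f := f.left) (g := η')
    · exact IsPullback.of_hasPullback f.left η'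
  have hE : IsPullback p₁ p₂ f f := by
    refine IsPullback.of_map (Over.forget _) ?_ ?_
    · ext1
      exact pullback.condition (f := f.left) (g := f.left)
    · exact IsPullback.of_hasPullback f.left f.left
  obtain ⟨d, -, hd⟩ := h.isPullback hK hE
  have hd' := hd.map (Over.forget _)
  have h1 : Flat ((Over.forget _).map p₁) :=
    MorphismProperty.of_isPullback (P := @Flat) hd'.flip (by
      change Flat K.hom
      infer_instance)
  have h2 : Flat (pullback.fst f.left f.left) := h1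
  have h3 : pullback.snd f.left f.left =
      (pullbackSymmetry f.left f.left).hom ≫ pullback.fst f.left f.left :=
    (pullbackSymmetry_hom_comp_fst _ _).symm
  rw [h3]
  infer_instance

end Groth.Agent.Sga3.H787.GenCongr
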