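import Groth.Agent.Sga3.H787.GenBir

/-!
# Automorphisms compatible with the kernel relation act birationally on the target
-/

set_option autoImplicit false
universe u

open CategoryTheory CategoryTheory.Limits AlgebraicGeometry

namespace Groth.Agent.Sga3.H787.GenIso

open Groth.Agent.Sga3C.FlatPt Groth.Agent.Sga3.H787.GenPt Groth.Agent.Sga3.H787.GenBir

variable {X W W' S : Scheme.{u}}

theorem fac_pt {φ : X ⟶ W} {ψ : X ⟶ W'} {U : W.Opens} {θ : U.toScheme ⟶ W'}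
    (hθ : (φ ∣_ U) ≫ θ = (φ ⁻¹ᵁ U).ι ≫ ψ) {T : Scheme.{u}} (z : T ⟶ U.toScheme) (x : T ⟶ X)
    (h : x ≫ φ = z ≫ U.ι) : z ≫ θ = x ≫ ψ := by
  have hp := isPullback_morphismRestrict φ U
  have h1 : hp.lift z x h.symm ≫ (φ ∣_ U) ≫ θ = hp.lift z x h.symm ≫ (φ ⁻¹ᵁ U).ι ≫ ψ := by
    rw [hθ]
  rwa [← Category.assoc, ← Category.assoc, hp.lift_fst, hp.lift_snd] at h1

theorem exists_ι_eq (U : X.Opens) {x : X} (hx : x ∈ U) : ∃ y : U.toScheme, U.ι y = x := by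
  have : x ∈ Set.range U.ι := by rw [Scheme.Opens.range_ι]; exact hx
  exact this

theorem ι_mem (U : X.Opens) (y : U.toScheme) : U.ι y ∈ U := by
  have : U.ι y ∈ Set.range U.ι := ⟨y, rfl⟩
  rw [Scheme.Opens.range_ι] at this
  exact this

theorem apply_of_fac {φ : X ⟶ W} {ψ : X ⟶ W'} {U : W.Opens} {θ : U.toScheme ⟶ W'}
    (hθ : (φ ∣_ U) ≫ θ = (φ ⁻¹ᵁ U).ι ≫ ψ) (x : X) (y : U.toScheme) (h : U.ι y = φ x) :
    θ y = ψ x := by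
  obtain ⟨x', rfl⟩ := exists_ι_eq (φ ⁻¹ᵁ U) (x := x) (by
    change φ x ∈ U
    rw [← h]
    exact ι_mem U y)
  have h1 : (φ ∣_ U) x' = y := by
    apply U.ι.isOpenEmbedding.injective
    rw [h, ← Scheme.Hom.comp_apply, ← Scheme.Hom.comp_apply, morphismRestrict_ι]
  rw [← h1, ← Scheme.Hom.comp_apply, hθ, Scheme.Hom.comp_apply]

theorem isFlatAt_of_fac {φ : X ⟶ W} {ψ : X ⟶ W'} {U : W.Opens} {θ : U.toScheme ⟶ W'}
    (hθ : (φ ∣_ U) ≫ θ = (φ ⁻¹ᵁ U).ι ≫ ψ) [Mono θ] (x : X) (hx : φ x ∈ U) (h : IsFlatAt ψ x) :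
    IsFlatAt φ x := by
  obtain ⟨x', rfl⟩ := exists_ι_eq (φ ⁻¹ᵁ U) (x := x) hx
  have e1 : IsFlatAt ((φ ⁻¹ᵁ U).ι ≫ ψ) x' := IsFlatAt.comp (isFlatAt_of_flat _ _) h
  rw [← hθ] at e1
  have e2 : IsFlatAt (φ ∣_ U) x' := by
    unfold IsFlatAt at e1 ⊢
    rw [← Category.assoc] at e1
    exact flat_of_comp_mono _ θ
  have e3 : IsFlatAt ((φ ∣_ U) ≫ U.ι) x' := IsFlatAt.comp e2 (isFlatAt_of_flat _ _)
  rw [morphismRestrict_ι] at e3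
  exact IsFlatAt.of_comp (isFlatAt_of_flat _ _) e3

/-- Equality of morphisms out of a scheme flat over `W` may be checked after base change along `φ`. -/
theorem ext_dom (φ : X ⟶ W) [QuasiCompact φ] [IsSchemeTheoreticallyDominant φ] {O Y B : Scheme.{u}}
    (j : O ⟶ W) [Flat j] (s : Y ⟶ B) [IsSeparated s] (f g : O ⟶ Y) (hs : f ≫ s = g ≫ s)
    (h : pullback.snd φ j ≫ f = pullback.snd φ j ≫ g) : f = g :=
  ext_of_schemeDominant (pullback.snd φ j) s f g hs h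

/-- The formal part of the construction: `θ₁`, `θ₂` factorizations of `α ≫ φ`, `α⁻¹ ≫ φ`. -/
theorem exists_iso_fac_aux (φ : X ⟶ W) [QuasiCompact φ] [IsSchemeTheoreticallyDominant φ]
    (w : W ⟶ S) [IsSeparated w] (α : X ≅ X) {U U' : W.Opens} {θ₁ : U.toScheme ⟶ W}
    {θ₂ : U'.toScheme ⟶ W} (hθ₁ : θ₁ ≫ w = U.ι ≫ w) (hθ₂ : θ₂ ≫ w = U'.ι ≫ w)
    (hθ₁' : (φ ∣_ U) ≫ θ₁ = (φ ⁻¹ᵁ U).ι ≫ α.hom ≫ φ)
    (hθ₂' : (φ ∣_ U') ≫ θ₂ = (φ ⁻¹ᵁ U').ι ≫ α.inv ≫ φ) :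
    ∃ (O : W.Opens) (_ : ∀ y : U.toScheme, θ₁ y ∈ U' → U.ι y ∈ O) (θ : O.toScheme ⟶ W)
      (t : O.toScheme ⟶ U'.toScheme), IsOpenImmersion θ ∧ θ ≫ w = O.ι ≫ w ∧
      (φ ∣_ O) ≫ θ = (φ ⁻¹ᵁ O).ι ≫ α.hom ≫ φ ∧ t ≫ U'.ι = θ ∧ t ≫ θ₂ = O.ι := by
  let O : W.Opens := U.ι ''ᵁ (θ₁ ⁻¹ᵁ U')
  have hOU : O ≤ U := by
    rintro _ ⟨y, -, rfl⟩
    exact y.2
  have hO : ∀ y : U.toScheme, θ₁ y ∈ U' → U.ι y ∈ O := fun y hy => ⟨y, hy, rfl⟩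
  obtain ⟨θ, hθdef⟩ : ∃ θ : O.toScheme ⟶ W, θ = W.homOfLE hOU ≫ θ₁ := ⟨_, rfl⟩
  have hθ : (φ ∣_ O) ≫ θ = (φ ⁻¹ᵁ O).ι ≫ α.hom ≫ φ := by
    rw [hθdef, ← Category.assoc]
    refine fac_pt hθ₁' _ _ ?_
    rw [Category.assoc, Scheme.homOfLE_ι, morphismRestrict_ι]
  have hrθ : Set.range θ ⊆ Set.range U'.ι := by
    rintro _ ⟨z, rfl⟩
    rw [Scheme.Opens.range_ι]
    obtain ⟨y, hy1, hy2⟩ : ∃ y : U.toScheme, θ₁ y ∈ U' ∧ U.ι y = O.ι z := ι_mem O z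
    have : W.homOfLE hOU z = y := by
      apply U.ι.isOpenEmbedding.injective
      rw [hy2, ← Scheme.Hom.comp_apply, Scheme.homOfLE_ι]
    rw [hθdef, Scheme.Hom.comp_apply, this]
    exact hy1
  obtain ⟨t, ht⟩ : ∃ t : O.toScheme ⟶ U'.toScheme, t ≫ U'.ι = θ :=
    ⟨IsOpenImmersion.lift U'.ι θ hrθ, IsOpenImmersion.lift_fac _ _ _⟩
  have hθw : θ ≫ w = O.ι ≫ w := by
    rw [hθdef, Category.assoc, hθ₁, Scheme.homOfLE_ι_assoc]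
  -- (a)
  have ha : t ≫ θ₂ = O.ι := by
    refine ext_dom φ O.ι w _ _ (by rw [Category.assoc, hθ₂, ← Category.assoc, ht, hθw]) ?_
    have e1 : pullback.snd φ O.ι ≫ θ = pullback.fst φ O.ι ≫ α.hom ≫ φ :=
      fac_pt hθ _ _ pullback.condition
    have e2 : (pullback.snd φ O.ι ≫ t) ≫ θ₂ = (pullback.fst φ O.ι ≫ α.hom) ≫ α.inv ≫ φ := by
      refine fac_pt hθ₂' _ _ ?_
      rw [Category.assoc, Category.assoc, ht, e1]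
    rw [← Category.assoc, e2, Category.assoc, Iso.hom_inv_id_assoc, pullback.condition]
  -- (b)
  obtain ⟨O', hO'⟩ : ∃ O' : U'.toScheme.Opens, O' = θ₂ ⁻¹ᵁ O := ⟨_, rfl⟩
  obtain ⟨r, hr⟩ : ∃ r : O'.toScheme ⟶ O.toScheme, r ≫ O.ι = O'.ι ≫ θ₂ :=
    ⟨IsOpenImmersion.lift O.ι (O'.ι ≫ θ₂) (by
      rintro _ ⟨z, rfl⟩
      rw [Scheme.Opens.range_ι]
      have := ι_mem O' z
      rw [Scheme.Hom.comp_apply]
      generalize O'.ι z = z' at this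
      rw [hO'] at this
      exact this), IsOpenImmersion.lift_fac _ _ _⟩
  have hb : r ≫ t = O'.ι := by
    rw [← cancel_mono U'.ι, Category.assoc, ht]
    refine ext_dom φ (O'.ι ≫ U'.ι) w _ _ ?_ ?_
    · rw [Category.assoc, hθw, ← Category.assoc, hr, Category.assoc, hθ₂, Category.assoc]
    · have e1 : (pullback.snd φ (O'.ι ≫ U'.ι) ≫ O'.ι) ≫ θ₂ =
          pullback.fst φ (O'.ι ≫ U'.ι) ≫ α.inv ≫ φ := by
        refine fac_pt hθ₂' _ _ ?_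
        rw [pullback.condition, Category.assoc]
      have e2 : (pullback.snd φ (O'.ι ≫ U'.ι) ≫ r) ≫ θ =
          (pullback.fst φ (O'.ι ≫ U'.ι) ≫ α.inv) ≫ α.hom ≫ φ := by
        refine fac_pt hθ _ _ ?_
        rw [Category.assoc, Category.assoc, hr, ← Category.assoc (pullback.snd φ _), e1]
      rw [← Category.assoc, e2, Category.assoc, Iso.inv_hom_id_assoc, pullback.condition]
  -- (c)
  obtain ⟨t', ht'⟩ : ∃ t' : O.toScheme ⟶ O'.toScheme, t' ≫ O'.ι = t :=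
    ⟨IsOpenImmersion.lift O'.ι t (by
      rintro _ ⟨z, rfl⟩
      rw [Scheme.Opens.range_ι, hO']
      change θ₂ (t z) ∈ O
      rw [← Scheme.Hom.comp_apply, ha]
      exact ι_mem O z), IsOpenImmersion.lift_fac _ _ _⟩
  have hc1 : t' ≫ r = 𝟙 _ := by
    rw [← cancel_mono O.ι, Category.assoc, hr, ← Category.assoc, ht', ha, Category.id_comp]
  have hc2 : r ≫ t' = 𝟙 _ := by
    rw [← cancel_mono O'.ι, Category.assoc, ht', hb, Category.id_comp]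
  have hiso : IsIso t' := ⟨r, hc1, hc2⟩
  have hto : IsOpenImmersion t := by rw [← ht']; infer_instance
  have hθo : IsOpenImmersion θ := by rw [← ht]; infer_instance
  exact ⟨O, hO, θ, t, hθo, hθw, hθ, ht, ha⟩

theorem exists_iso_fac (φ : X ⟶ W) [QuasiCompact φ]
    [IsSchemeTheoreticallyDominant φ] [IsLocallyNoetherian W] (hfl : Flat (pullback.snd φ φ))
    (w : W ⟶ S) [IsSeparated w] [LocallyOfFiniteType w] [QuasiCompact w]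
    (α : X ≅ X) (hα : α.hom ≫ φ ≫ w = φ ≫ w)
    (h1 : ∀ (T : Scheme.{u}) (a b : T ⟶ X), a ≫ φ = b ≫ φ → a ≫ α.hom ≫ φ = b ≫ α.hom ≫ φ)
    (h2 : ∀ (T : Scheme.{u}) (a b : T ⟶ X), a ≫ φ = b ≫ φ → a ≫ α.inv ≫ φ = b ≫ α.inv ≫ φ)
    (hm : ∀ x : X, Mx x → Mx (φ x)) {w₀ : W} (h₀ : Mx w₀) :
    ∃ (O : W.Opens) (_ : w₀ ∈ O) (θ : O.toScheme ⟶ W), IsOpenImmersion θ ∧ θ ≫ w = O.ι ≫ w ∧
      (φ ∣_ O) ≫ θ = (φ ⁻¹ᵁ O).ι ≫ α.hom ≫ φ ∧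
      (∀ x : X, φ x ∈ O → IsFlatAt φ (α.hom x) → IsFlatAt φ x) ∧
      (∀ z : O.toScheme, θ z ∈ Set.range φ → O.ι z ∈ Set.range φ) := by
  have hα' : α.inv ≫ φ ≫ w = φ ≫ w := by rw [← hα, Iso.inv_hom_id_assoc, hα]
  obtain ⟨U, hU, θ₁, hθ₁, hθ₁'⟩ := exists_fac φ (α.hom ≫ φ) hfl h1 w w
    (by rw [Category.assoc, hα]) h₀
  obtain ⟨x₀, hx₀, rfl⟩ := exists_mx_of_dominant φ h₀
  have hx₁ : Mx (φ (α.hom x₀)) := hm _ hx₀.map_of_isIso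
  obtain ⟨U', hU', θ₂, hθ₂, hθ₂'⟩ := exists_fac φ (α.inv ≫ φ) hfl h2 w w
    (by rw [Category.assoc, hα']) hx₁
  obtain ⟨O, hO, θ, t, hθo, hθw, hθ, ht, ha⟩ := exists_iso_fac_aux φ w α hθ₁ hθ₂ hθ₁' hθ₂'
  refine ⟨O, ?_, θ, hθo, hθw, hθ, ?_, ?_⟩
  · obtain ⟨y, hy⟩ := exists_ι_eq U hU
    rw [← hy]
    apply hO
    rw [apply_of_fac hθ₁' x₀ y hy]
    exact hU'
  · intro x hx hfx
    exact isFlatAt_of_fac hθ x hx (IsFlatAt.comp (isFlatAt_of_flat _ _) hfx)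
  · rintro z ⟨x, hx⟩
    have e1 : U'.ι (t z) = φ x := by rw [hx, ← ht, Scheme.Hom.comp_apply]
    have e2 := apply_of_fac hθ₂' x (t z) e1
    rw [← ha, Scheme.Hom.comp_apply, e2]
    exact ⟨_, rfl⟩

end Groth.Agent.Sga3.H787.GenIso
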