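import Groth.Agent.Sga3.H787.GenPt

/-!
# Morphisms with comparable kernel relations: residue fields of the images

If `a ≫ φ = b ≫ φ` implies `a ≫ φ' = b ≫ φ'` then `κ(φ' x) ⊆ κ(φ x)` inside `κ(x)`; hence the
transcendence degrees of the residue fields of the images compare.
-/

set_option autoImplicit false
universe u

open CategoryTheory CategoryTheory.Limits AlgebraicGeometry

namespace Groth.Agent.Sga3.H787.GenKR

open Groth.Agent.CycB.RelDim Groth.Agent.Sga3C.FlatPt Groth.Agent.Sga3.H787.GenPt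

variable {X W W' B : Scheme.{u}}

theorem exists_residue_map (φ : X ⟶ W) (φ' : X ⟶ W')
    (h : ∀ (T : Scheme.{u}) (a b : T ⟶ X), a ≫ φ = b ≫ φ → a ≫ φ' = b ≫ φ') (x : X) :
    ∃ θ : Spec (W.residueField (φ x)) ⟶ Spec (W'.residueField (φ' x)),
      Spec.map (φ.residueFieldMap x) ≫ θ = Spec.map (φ'.residueFieldMap x) := by
  have h1 : ∀ {T : Scheme.{u}} (a b : T ⟶ Spec (X.residueField x)),
      a ≫ Spec.map (φ.residueFieldMap x) = b ≫ Spec.map (φ.residueFieldMap x) →
      a ≫ Spec.map (φ'.residueFieldMap x) = b ≫ Spec.map (φ'.residueFieldMap x) := by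
    intro T a b hab
    rw [← cancel_mono (W'.fromSpecResidueField (φ' x)), Category.assoc, Category.assoc,
      Scheme.Hom.SpecMap_residueFieldMap_fromSpecResidueField, ← Category.assoc, ← Category.assoc]
    apply h
    rw [Category.assoc, Category.assoc,
      ← Scheme.Hom.SpecMap_residueFieldMap_fromSpecResidueField, ← Category.assoc, hab,
      Category.assoc]
  exact ⟨EffectiveEpi.desc _ _ h1, EffectiveEpi.fac _ _ h1⟩

theorem rtd_le_of_rel (φ : X ⟶ W) (φ' : X ⟶ W')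
    (h : ∀ (T : Scheme.{u}) (a b : T ⟶ X), a ≫ φ = b ≫ φ → a ≫ φ' = b ≫ φ')
    (p : W ⟶ B) (p' : W' ⟶ B) (hp : φ ≫ p = φ' ≫ p') (x : X) :
    rtd p' (φ' x) ≤ rtd p (φ x) := by
  obtain ⟨θ, hθ⟩ := exists_residue_map φ φ' h x
  have h1 : W.fromSpecResidueField (φ x) ≫ p = θ ≫ W'.fromSpecResidueField (φ' x) ≫ p' := by
    rw [← cancel_epi (Spec.map (φ.residueFieldMap x)), ← Category.assoc, ← Category.assoc, hθ,
      Scheme.Hom.SpecMap_residueFieldMap_fromSpecResidueField, ← Category.assoc,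
      Scheme.Hom.SpecMap_residueFieldMap_fromSpecResidueField, Category.assoc, Category.assoc, hp]
  obtain ⟨s⟩ : Nonempty ↥(Spec (W.residueField (φ x))) := inferInstance
  have h2 := rtd_comp (W.fromSpecResidueField (φ x)) p s
  have h3 := rtd_comp θ (W'.fromSpecResidueField (φ' x) ≫ p') s
  have h4 := rtd_comp (W'.fromSpecResidueField (φ' x)) p' (θ s)
  rw [rtd_eq_zero_of_isPreimmersion (W.fromSpecResidueField (φ x)), add_zero,
    Scheme.fromSpecResidueField_apply] at h2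
  rw [rtd_eq_zero_of_isPreimmersion (W'.fromSpecResidueField (φ' x)), add_zero,
    Scheme.fromSpecResidueField_apply] at h4
  rw [← h4, ← h2, h1, h3]
  exact self_le_add_right _ _

theorem rtd_eq_of_rel (φ : X ⟶ W) (φ' : X ⟶ W')
    (h : ∀ (T : Scheme.{u}) (a b : T ⟶ X), a ≫ φ = b ≫ φ ↔ a ≫ φ' = b ≫ φ')
    (p : W ⟶ B) (p' : W' ⟶ B) (hp : φ ≫ p = φ' ≫ p') (x : X) :
    rtd p' (φ' x) = rtd p (φ x) :=
  le_antisymm (rtd_le_of_rel φ φ' (fun T a b => (h T a b).mp) p p' hp x)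
    (rtd_le_of_rel φ' φ (fun T a b => (h T a b).mpr) p' p hp.symm x)

end Groth.Agent.Sga3.H787.GenKR
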