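import Groth.Agent.Sga3.H787.GenCongr
import Groth.Agent.Sga3C.FlatGeneric

/-!
# A morphism `f : G ⟶ Z` whose kernel relation is a congruence maps maximal points to maximal points
-/

set_option autoImplicit false
universe u v

open CategoryTheory MonoidalCategory CartesianMonoidalCategory MonObj GrpObj AlgebraicGeometry Limits

namespace Groth.Agent.Sga3.H787.GenTrd

open Groth.Agent.CycB.RelDim Groth.Agent.Sga3C.FlatPt Groth.Agent.Sga3.H787.GenPt
  Groth.Agent.Sga3.H787.GenKR Groth.Agent.Sga3.H787.GenCongr Groth.Agent.Sga3C.SchemImage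

section

variable {S : Scheme.{u}} {G Z : Over S} {f : G ⟶ Z}

theorem whiskerLeft_comp_eq_iff {X Y T : Over S} (A : Over S) (f : X ⟶ Y) (a b : T ⟶ A ⊗ X) :
    a ≫ A ◁ f = b ≫ A ◁ f ↔
      a ≫ fst A X = b ≫ fst A X ∧ (a ≫ snd A X) ≫ f = (b ≫ snd A X) ≫ f := by
  constructor
  · intro h
    have h1 := congrArg (· ≫ fst A Y) h
    have h2 := congrArg (· ≫ snd A Y) h
    simp only [Category.assoc, whiskerLeft_fst, whiskerLeft_snd] at h1 h2 ⊢
    exact ⟨h1, h2⟩
  · rintro ⟨h1, h2⟩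
    simp only [Category.assoc] at h2
    ext1
    · simpa using h1
    · simpa using h2

/-- The fibre coordinates of the image of a maximal point under `G ◁ f`. -/
theorem rtd_fst_whiskerLeft (A : Over S) {X Y : Over S} (f : X ⟶ Y) {ω : (A ⊗ X).left} (hω : Mx ω) :
    rtd (fst A Y).left ((A ◁ f).left ω) = rtd Y.hom (f.left ((snd A X).left ω)) := by
  have h1 : (snd A Y).left ((A ◁ f).left ω) = f.left ((snd A X).left ω) := by
    rw [← Scheme.Hom.comp_apply, ← Scheme.Hom.comp_apply, ← Over.comp_left, ← Over.comp_left,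
      whiskerLeft_snd]
  rw [← h1]
  refine rtd_fst_eq (f := A.hom) (g := Y.hom) ((A ◁ f).left ω) fun t' _ ht2 ht3 => ?_
  obtain ⟨ω', h2, h3, -⟩ := exists_lift_snd (isPullback_whiskerLeft_left f A) ω t' ht3 ht2
  rw [← h3, hω _ h2]

theorem Congr.rel_sh₁ [GrpObj G] (h : Congr f) (T : Over S) (a b : T ⟶ G ⊗ G) :
    a ≫ G ◁ f = b ≫ G ◁ f ↔ a ≫ (sh₁ G).hom ≫ G ◁ f = b ≫ (sh₁ G).hom ≫ G ◁ f := by
  rw [← Category.assoc, ← Category.assoc, whiskerLeft_comp_eq_iff, whiskerLeft_comp_eq_iff]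
  simp only [Category.assoc, sh₁_hom_fst, sh₁_hom_snd]
  refine and_congr_right fun h1 => ?_
  simp only [← Category.assoc, comp_mul, h1]
  constructor
  · intro h2
    exact h.left _ _ _ _ h2
  · intro h2
    have := h.left _ (b ≫ fst G G)⁻¹ _ _ h2
    rwa [inv_mul_cancel_left, inv_mul_cancel_left] at this

end

variable {k : Type u} [Field k] {G Z : Over (Spec (CommRingCat.of k))} [GrpObj G] {f : G ⟶ Z}

/-- The dimensions of the closures of the images of the maximal points of `G` are equal. -/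
theorem Congr.rtd_eq (h : Congr f) {ξ₁ ξ₂ : G.left} (h₁ : Mx ξ₁) (h₂ : Mx ξ₂) :
    rtd Z.hom (f.left ξ₁) = rtd Z.hom (f.left ξ₂) := by
  -- a maximal point `ω'` of `G × G` over `(ξ₂, ξ₁)`
  obtain ⟨ω₀, hω1, hω2⟩ := Scheme.Pullback.exists_preimage_pullback (f := G.hom) (g := G.hom) ξ₂ ξ₁
    (Subsingleton.elim _ _)
  obtain ⟨ω', hω', hm⟩ := exists_mx (X := (G ⊗ G).left) ω₀
  have e1 : (fst G G).left ω' = ξ₂ := h₂ _ (by rw [← hω1]; exact hω'.map (fst G G).left.continuous)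
  have e2 : (snd G G).left ω' = ξ₁ := h₁ _ (by rw [← hω2]; exact hω'.map (snd G G).left.continuous)
  obtain ⟨ω, rfl⟩ : ∃ ω, (sh₂ G).hom.left ω = ω' := by
    refine ⟨(sh₂ G).inv.left ω', ?_⟩
    rw [← Scheme.Hom.comp_apply, ← Over.comp_left, Iso.inv_hom_id]
    rfl
  have hω : Mx ω := by
    have := hm.map_of_isIso (f := (sh₂ G).inv.left)
    rw [← Scheme.Hom.comp_apply, ← Over.comp_left, Iso.hom_inv_id] at this
    exact this
  have hω₂ : Mx ((sh₁ G).hom.left ω) := hω.map_of_isIso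
  have e3 := rtd_fst_whiskerLeft G f hω
  have e4 := rtd_fst_whiskerLeft G f hω₂
  have e5 : (snd G G).left ω = ξ₁ := by
    rw [← e2, ← Scheme.Hom.comp_apply, ← Over.comp_left, sh₂_hom_snd]
  have e6 : (snd G G).left ((sh₁ G).hom.left ω) = ξ₂ := by
    rw [← e1, ← Scheme.Hom.comp_apply, ← Scheme.Hom.comp_apply, ← Over.comp_left,
      ← Over.comp_left, sh₂_hom_fst, sh₁_hom_snd]
  have e7 := rtd_eq_of_rel (G ◁ f).left ((sh₁ G).hom ≫ G ◁ f).left
    (fun T a b => ⟨rel_left (G ◁ f) ((sh₁ G).hom ≫ G ◁ f) (fun T a b => (Congr.rel_sh₁ h T a b).mp) T a b,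
      rel_left ((sh₁ G).hom ≫ G ◁ f) (G ◁ f) (fun T a b => (Congr.rel_sh₁ h T a b).mpr) T a b⟩)
    (fst G Z).left (fst G Z).left (by
      rw [← Over.comp_left, ← Over.comp_left]; simp) ω
  rw [Over.comp_left, Scheme.Hom.comp_apply, e4, e3, e5, e6] at e7
  exact e7.symm

/-- `f` maps maximal points to maximal points. -/
theorem Congr.mx_map (h : Congr f) [QuasiCompact f.left] [IsDominant f.left]
    [LocallyOfFiniteType Z.hom] {ξ : G.left} (hξ : Mx ξ) : Mx (f.left ξ) := by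
  obtain ⟨ζ, hζ, hm⟩ := exists_mx (f.left ξ)
  obtain ⟨ξ', hξ', rfl⟩ := exists_mx_of_dominant f.left hm
  by_cases hne : f.left ξ' = f.left ξ
  · rwa [hne] at hm
  · have h1 := rtd_lt_of_specializes Z.hom hζ hne (Subsingleton.elim _ _)
    rw [Congr.rtd_eq h hξ' hξ] at h1
    exact absurd h1 (lt_irrefl _)

/-- `f` is flat at all maximal points. -/
theorem Congr.isFlatAt_of_mx (h : Congr f) [QuasiCompact f.left]
    [IsSchemeTheoreticallyDominant f.left] [LocallyOfFiniteType Z.hom] {ξ : G.left} (hξ : Mx ξ) :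
    IsFlatAt f.left ξ :=
  haveI : IsLocallyNoetherian Z.left := LocallyOfFiniteType.isLocallyNoetherian Z.hom
  Groth.Agent.Sga3C.FlatGeneric.isFlatAt_of_maximal f.left h.flat_snd ξ (Congr.mx_map h hξ)

end Groth.Agent.Sga3.H787.GenTrd
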