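import Groth.Agent.Sga3.H787.GenIso
import Groth.Agent.Sga3.H787.GenTrd
import Groth.Prelude.Def_AlgGrp

/-!
# The image of a group scheme under a morphism whose kernel relation is a congruence

Let `G` be a quasi-compact group scheme over a field, `f : G ⟶ Z` a scheme theoretically dominant
morphism to a separated scheme of finite type whose kernel relation is a congruence.  Then there is an
open subscheme `U` of `Z` containing the images of all maximal points of `G` over which `f` is flat and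
surjective.
-/

set_option autoImplicit false
universe u v

open CategoryTheory MonoidalCategory CartesianMonoidalCategory MonObj GrpObj AlgebraicGeometry Limits

namespace Groth.Agent.Sga3.H787.GenMain

open Groth.Agent.CycB.RelDim Groth.Agent.Sga3C.FlatPt Groth.Agent.Sga3.H787.GenPt
  Groth.Agent.Sga3.H787.GenKR Groth.Agent.Sga3.H787.GenCongr Groth.Agent.Sga3C.SchemImage
  Groth.Agent.Sga3.H787.GenTrd Groth.Agent.Sga3.H787.GenIso

section Basic

theorem exists_preimage {P X Y S : Scheme.{u}} {p : P ⟶ X} {q : P ⟶ Y} {f : X ⟶ S} {g : Y ⟶ S}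
    (h : IsPullback p q f g) (x : X) (y : Y) (hxy : f x = g y) : ∃ t : P, p t = x ∧ q t = y := by
  obtain ⟨t, ht1, ht2⟩ := Scheme.Pullback.exists_preimage_pullback x y hxy
  refine ⟨h.isoPullback.inv t, ?_, ?_⟩
  · rw [← Scheme.Hom.comp_apply, h.isoPullback_inv_fst, ht1]
  · rw [← Scheme.Hom.comp_apply, h.isoPullback_inv_snd, ht2]

theorem fibGeneric_of_iso {P Y : Scheme.{u}} (q : P ⟶ Y) (e : P ≅ P) (he : e.hom ≫ q = q) {t : P}
    (ht : FibGeneric q t) : FibGeneric q (e.hom t) := by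
  intro z hz hzt
  have h1 : e.inv ≫ q = q := by rw [Iso.inv_comp_eq, he]
  have h2 : e.inv (e.hom t) = t := by rw [← Scheme.Hom.comp_apply, e.hom_inv_id]; rfl
  have h3 : e.inv z = t := by
    apply ht
    · rw [← Scheme.Hom.comp_apply, h1, hz, ← Scheme.Hom.comp_apply, he]
    · have := hzt.map e.inv.continuous
      rwa [h2] at this
  rw [← h3, ← Scheme.Hom.comp_apply, e.inv_hom_id]
  rfl

variable {S : Scheme.{u}}

theorem isPullback_tensor_left (X Y : Over S) :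
    IsPullback (fst X Y).left (snd X Y).left X.hom Y.hom :=
  IsPullback.of_hasPullback X.hom Y.hom

theorem tensorHom_comp_fst_left {X Y X' Y' : Over S} (f : X ⟶ X') (g : Y ⟶ Y') :
    (f ⊗ₘ g).left ≫ (fst X' Y').left = (fst X Y).left ≫ f.left := by
  rw [← Over.comp_left, tensorHom_fst, Over.comp_left]

theorem tensorHom_comp_snd_left {X Y X' Y' : Over S} (f : X ⟶ X') (g : Y ⟶ Y') :
    (f ⊗ₘ g).left ≫ (snd X' Y').left = (snd X Y).left ≫ g.left := by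
  rw [← Over.comp_left, tensorHom_snd, Over.comp_left]

theorem tensorHom_left {X Y X' Y' : Over S} (f : X ⟶ X') (g : Y ⟶ Y') :
    (f ⊗ₘ g).left = (f ▷ Y).left ≫ (X' ◁ g).left := by
  rw [tensorHom_def, Over.comp_left]

theorem isFlatAt_tensorHom {X Y X' Y' : Over S} (f : X ⟶ X') (g : Y ⟶ Y') (t : (X ⊗ Y).left)
    (h1 : IsFlatAt f.left ((fst X Y).left t)) (h2 : IsFlatAt g.left ((snd X Y).left t)) :
    IsFlatAt (f ⊗ₘ g).left t := by
  rw [tensorHom_left]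
  refine IsFlatAt.comp ?_ ?_
  · exact IsFlatAt.of_isPullback (isPullback_whiskerRight_left f Y).flip t h1
  · refine IsFlatAt.of_isPullback (isPullback_whiskerLeft_left g X').flip _ ?_
    have : (snd X' Y).left ((f ▷ Y).left t) = (snd X Y).left t := by
      rw [← Scheme.Hom.comp_apply, ← Over.comp_left, whiskerRight_snd]
    rw [this]
    exact h2

theorem mem_range_tensorHom {X Y X' Y' : Over S} (f : X ⟶ X') (g : Y ⟶ Y') (t : (X' ⊗ Y').left)
    (h1 : (fst X' Y').left t ∈ Set.range f.left) (h2 : (snd X' Y').left t ∈ Set.range g.left) :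
    t ∈ Set.range (f ⊗ₘ g).left := by
  obtain ⟨y, hy⟩ := h2
  obtain ⟨t₁, ht₁, -⟩ := exists_preimage (isPullback_whiskerLeft_left g X') t y hy.symm
  obtain ⟨x, hx⟩ := h1
  obtain ⟨t₂, ht₂, -⟩ := exists_preimage (isPullback_whiskerRight_left f Y) t₁ x (by
    rw [hx, ← ht₁, ← Scheme.Hom.comp_apply, ← Over.comp_left, whiskerLeft_fst])
  refine ⟨t₂, ?_⟩
  rw [tensorHom_left, Scheme.Hom.comp_apply, ht₂, ht₁]

end Basic

variable {k : Type u} [Field k] {G Z : Over (Spec (CommRingCat.of k))} [GrpObj G] {f : G ⟶ Z}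

theorem mx_fst {X Y : Over (Spec (CommRingCat.of k))} {t : (X ⊗ Y).left}
    (ht : FibGeneric (snd X Y).left t) : Mx ((fst X Y).left t) :=
  mx_fst_of_fibGeneric (isPullback_tensor_left X Y) inferInstance ht

section Local

variable (h : Congr f) [QuasiCompact f.left] [IsSchemeTheoreticallyDominant f.left]
  [LocallyOfFiniteType Z.hom]
include h

theorem isFlatAt_of_local {O₁ : (Z ⊗ Z).left.Opens}
    (hfl₁ : ∀ x : (G ⊗ G).left, (f ⊗ₘ f).left x ∈ O₁ →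
      IsFlatAt (f ⊗ₘ f).left ((sh₁ G).hom.left x) → IsFlatAt (f ⊗ₘ f).left x)
    {w : (Z ⊗ Z).left} (hw : w ∈ O₁) (g : G.left) (hg : f.left g = (snd Z Z).left w) :
    IsFlatAt f.left g := by
  have : IsDominant f.left := inferInstance
  obtain ⟨v₀, hv₀, hv₀'⟩ := exists_preimage (isPullback_whiskerLeft_left f Z) w g hg.symm
  obtain ⟨v, hv, hv', hvg⟩ := exists_fibGeneric (snd Z G).left v₀
  have hvO : (Z ◁ f).left v ∈ O₁ := by
    have h1 := hv.map (Z ◁ f).left.continuous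
    rw [hv₀] at h1
    exact h1.mem_open O₁.2 hw
  obtain ⟨ξ, -, hξ⟩ := exists_mx_of_dominant f.left (mx_fst hvg)
  obtain ⟨ω₀, hω₀, -⟩ := exists_preimage (isPullback_whiskerRight_left f G) v ξ hξ.symm
  obtain ⟨ω, hω, hω', hωg⟩ := exists_fibGeneric (snd G G).left ω₀
  have hsnd : ∀ t : (G ⊗ G).left, (snd Z G).left ((f ▷ G).left t) = (snd G G).left t := by
    intro t
    rw [← Scheme.Hom.comp_apply, ← Over.comp_left, whiskerRight_snd]
  have hωv : (f ▷ G).left ω = v := by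
    apply hvg
    · rw [hsnd, hω', ← hsnd, hω₀]
    · rw [← hω₀]
      exact hω.map (f ▷ G).left.continuous
  have hωs : (snd G G).left ω = g := by
    rw [← hsnd, hωv, hv', hv₀']
  -- both coordinates of `sh₁ ω` are maximal
  have hm1 : Mx ((fst G G).left ((sh₁ G).hom.left ω)) := by
    rw [← Scheme.Hom.comp_apply, ← Over.comp_left, sh₁_hom_fst]
    exact mx_fst hωg
  have hm2 : Mx ((snd G G).left ((sh₁ G).hom.left ω)) := by
    have h1 : FibGeneric (snd G G).left ((sh₂ G).hom.left ω) :=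
      fibGeneric_of_iso (snd G G).left ((Over.forget _).mapIso (sh₂ G)) (by
        change (sh₂ G).hom.left ≫ (snd G G).left = _
        rw [← Over.comp_left, sh₂_hom_snd]) hωg
    have h2 := mx_fst h1
    rw [← Scheme.Hom.comp_apply, ← Over.comp_left, sh₂_hom_fst, ← sh₁_hom_snd] at h2
    rwa [← Scheme.Hom.comp_apply, ← Over.comp_left]
  have h3 : IsFlatAt (f ⊗ₘ f).left ((sh₁ G).hom.left ω) :=
    isFlatAt_tensorHom f f _ (Congr.isFlatAt_of_mx h hm1) (Congr.isFlatAt_of_mx h hm2)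
  have h4 : IsFlatAt (f ⊗ₘ f).left ω := by
    refine hfl₁ ω ?_ h3
    rw [tensorHom_left, Scheme.Hom.comp_apply, hωv]
    exact hvO
  have h5 : IsFlatAt ((f ⊗ₘ f).left ≫ (snd Z Z).left) ω :=
    IsFlatAt.comp h4 (haveI := flat_snd Z Z; isFlatAt_of_flat _ _)
  rw [tensorHom_comp_snd_left] at h5
  have h6 := IsFlatAt.of_comp (haveI := flat_snd G G; isFlatAt_of_flat _ _) h5
  rwa [hωs] at h6

theorem mem_range_of_local [IsSeparated Z.hom] {O₁ O₂ : (Z ⊗ Z).left.Opens}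
    (θ₁ : O₁.toScheme ⟶ (Z ⊗ Z).left) (θ₂ : O₂.toScheme ⟶ (Z ⊗ Z).left) [IsOpenImmersion θ₂]
    (hθ₁ : θ₁ ≫ (Z ⊗ Z).hom = O₁.ι ≫ (Z ⊗ Z).hom) (hθ₂ : θ₂ ≫ (Z ⊗ Z).hom = O₂.ι ≫ (Z ⊗ Z).hom)
    (hfac₁ : ((f ⊗ₘ f).left ∣_ O₁) ≫ θ₁ = ((f ⊗ₘ f).left ⁻¹ᵁ O₁).ι ≫ (sh₁ G).hom.left ≫ (f ⊗ₘ f).left)
    (hfac₂ : ((f ⊗ₘ f).left ∣_ O₂) ≫ θ₂ = ((f ⊗ₘ f).left ⁻¹ᵁ O₂).ι ≫ (sh₂ G).hom.left ≫ (f ⊗ₘ f).left)
    (hra₁ : ∀ z : O₁.toScheme, θ₁ z ∈ Set.range (f ⊗ₘ f).left → O₁.ι z ∈ Set.range (f ⊗ₘ f).left)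
    {w : (Z ⊗ Z).left} (hw₁ : w ∈ O₁) (hw₂ : w ∈ O₂) :
    (snd Z Z).left w ∈ Set.range f.left := by
  have : IsDominant f.left := inferInstance
  have hφq : QuasiCompact (f ⊗ₘ f).left := by
    rw [tensorHom_left]
    have := quasiCompact_whiskerRight f G
    have := quasiCompact_whiskerLeft f Z
    infer_instance
  have hφd : IsSchemeTheoreticallyDominant (f ⊗ₘ f).left := by
    rw [tensorHom_left]
    have := dominant_whiskerRight f G
    have := dominant_whiskerLeft f Z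
    infer_instance
  obtain ⟨w', hw', hww', hwg⟩ := exists_fibGeneric (snd Z Z).left w
  have hwO₁ : w' ∈ O₁ := hw'.mem_open O₁.2 hw₁
  have hwO₂ : w' ∈ O₂ := hw'.mem_open O₂.2 hw₂
  obtain ⟨z₁, hz₁⟩ := exists_ι_eq O₁ hwO₁
  obtain ⟨z₂, hz₂⟩ := exists_ι_eq O₂ hwO₂
  -- `θ₁` is over the first projection
  have e1 : θ₁ ≫ (fst Z Z).left = O₁.ι ≫ (fst Z Z).left := by
    refine ext_dom (f ⊗ₘ f).left O₁.ι Z.hom _ _ ?_ ?_
    · rw [Category.assoc, Category.assoc, Over.w, hθ₁]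
    · have e2 : pullback.snd (f ⊗ₘ f).left O₁.ι ≫ θ₁ =
        pullback.fst (f ⊗ₘ f).left O₁.ι ≫ (sh₁ G).hom.left ≫ (f ⊗ₘ f).left :=
        fac_pt hfac₁ _ _ pullback.condition
      rw [← Category.assoc, e2, Category.assoc, Category.assoc, tensorHom_comp_fst_left,
        ← Category.assoc (sh₁ G).hom.left, ← Over.comp_left, sh₁_hom_fst,
        ← tensorHom_comp_fst_left, ← Category.assoc, pullback.condition, Category.assoc]
  have e2 : θ₂ ≫ (snd Z Z).left = O₂.ι ≫ (snd Z Z).left := by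
    refine ext_dom (f ⊗ₘ f).left O₂.ι Z.hom _ _ ?_ ?_
    · rw [Category.assoc, Category.assoc, Over.w, hθ₂]
    · have e2 : pullback.snd (f ⊗ₘ f).left O₂.ι ≫ θ₂ =
        pullback.fst (f ⊗ₘ f).left O₂.ι ≫ (sh₂ G).hom.left ≫ (f ⊗ₘ f).left :=
        fac_pt hfac₂ _ _ pullback.condition
      rw [← Category.assoc, e2, Category.assoc, Category.assoc, tensorHom_comp_snd_left,
        ← Category.assoc (sh₂ G).hom.left, ← Over.comp_left, sh₂_hom_snd,
        ← tensorHom_comp_snd_left, ← Category.assoc, pullback.condition, Category.assoc]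
  -- on `O₁ ⊓ O₂`
  have e3 : (Z ⊗ Z).left.homOfLE (inf_le_left : O₁ ⊓ O₂ ≤ O₁) ≫ θ₁ ≫ (snd Z Z).left =
      (Z ⊗ Z).left.homOfLE (inf_le_right : O₁ ⊓ O₂ ≤ O₂) ≫ θ₂ ≫ (fst Z Z).left := by
    refine ext_dom (f ⊗ₘ f).left (O₁ ⊓ O₂).ι Z.hom _ _ ?_ ?_
    · rw [Category.assoc, Category.assoc, Over.w, hθ₁, Category.assoc, Category.assoc, Over.w, hθ₂,
        Scheme.homOfLE_ι_assoc, Scheme.homOfLE_ι_assoc]
    · have e4 : (pullback.snd (f ⊗ₘ f).left (O₁ ⊓ O₂).ι ≫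
          (Z ⊗ Z).left.homOfLE (inf_le_left : O₁ ⊓ O₂ ≤ O₁)) ≫ θ₁ =
          pullback.fst (f ⊗ₘ f).left (O₁ ⊓ O₂).ι ≫ (sh₁ G).hom.left ≫ (f ⊗ₘ f).left :=
        fac_pt hfac₁ _ _ (by rw [Category.assoc, Scheme.homOfLE_ι, pullback.condition])
      have e5 : (pullback.snd (f ⊗ₘ f).left (O₁ ⊓ O₂).ι ≫
          (Z ⊗ Z).left.homOfLE (inf_le_right : O₁ ⊓ O₂ ≤ O₂)) ≫ θ₂ =
          pullback.fst (f ⊗ₘ f).left (O₁ ⊓ O₂).ι ≫ (sh₂ G).hom.left ≫ (f ⊗ₘ f).left :=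
        fac_pt hfac₂ _ _ (by rw [Category.assoc, Scheme.homOfLE_ι, pullback.condition])
      have e4' := e4 =≫ (snd Z Z).left
      have e5' := e5 =≫ (fst Z Z).left
      simp only [Category.assoc] at e4' e5' ⊢
      have s1 : (sh₁ G).hom.left ≫ (snd G G).left = (fst G G * snd G G).left := by
        rw [← Over.comp_left, sh₁_hom_snd]
      have s2 : (sh₂ G).hom.left ≫ (fst G G).left = (fst G G * snd G G).left := by
        rw [← Over.comp_left, sh₂_hom_fst]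
      rw [e4', e5', tensorHom_comp_snd_left, tensorHom_comp_fst_left,
        ← Category.assoc (sh₁ G).hom.left, s1, ← Category.assoc (sh₂ G).hom.left, s2]
  obtain ⟨z, hz⟩ := exists_ι_eq (O₁ ⊓ O₂) (show w' ∈ O₁ ⊓ O₂ from ⟨hwO₁, hwO₂⟩)
  have hzz₁ : (Z ⊗ Z).left.homOfLE (inf_le_left : O₁ ⊓ O₂ ≤ O₁) z = z₁ := by
    apply O₁.ι.isOpenEmbedding.injective
    rw [← Scheme.Hom.comp_apply, Scheme.homOfLE_ι, hz, hz₁]
  have hzz₂ : (Z ⊗ Z).left.homOfLE (inf_le_right : O₁ ⊓ O₂ ≤ O₂) z = z₂ := by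
    apply O₂.ι.isOpenEmbedding.injective
    rw [← Scheme.Hom.comp_apply, Scheme.homOfLE_ι, hz, hz₂]
  have e6 : (snd Z Z).left (θ₁ z₁) = (fst Z Z).left (θ₂ z₂) := by
    rw [← hzz₁, ← hzz₂, ← Scheme.Hom.comp_apply, ← Scheme.Hom.comp_apply, ← Scheme.Hom.comp_apply,
      ← Scheme.Hom.comp_apply, e3]
  -- `θ₂ z₂` is generic in its fibre
  have hgen : FibGeneric (snd Z Z).left (θ₂ z₂) := by
    intro y hy hyz
    have hy1 : y ∈ θ₂.opensRange := hyz.mem_open θ₂.opensRange.2 ⟨z₂, rfl⟩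
    obtain ⟨y', rfl⟩ := hy1
    have hy2 : y' ⤳ z₂ := θ₂.isOpenEmbedding.isInducing.specializes_iff.mp hyz
    have hy3 : O₂.ι y' = w' := by
      apply hwg
      · rw [← Scheme.Hom.comp_apply, ← e2, Scheme.Hom.comp_apply, hy, ← Scheme.Hom.comp_apply, e2,
          Scheme.Hom.comp_apply, hz₂]
      · rw [← hz₂]
        exact hy2.map O₂.ι.continuous
    have hy4 : y' = z₂ := O₂.ι.isOpenEmbedding.injective (by rw [hy3, hz₂])
    rw [hy4]
  have hm1 : Mx ((fst Z Z).left (θ₁ z₁)) := by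
    rw [← Scheme.Hom.comp_apply, e1, Scheme.Hom.comp_apply, hz₁]
    exact mx_fst hwg
  have hm2 : Mx ((snd Z Z).left (θ₁ z₁)) := by
    rw [e6]
    exact mx_fst hgen
  obtain ⟨x₁, -, hx₁⟩ := exists_mx_of_dominant f.left hm1
  obtain ⟨x₂, -, hx₂⟩ := exists_mx_of_dominant f.left hm2
  obtain ⟨p, hp⟩ := hra₁ z₁ (mem_range_tensorHom f f _ ⟨x₁, hx₁⟩ ⟨x₂, hx₂⟩)
  refine ⟨(snd G G).left p, ?_⟩
  rw [← Scheme.Hom.comp_apply, ← tensorHom_comp_snd_left, Scheme.Hom.comp_apply, hp, hz₁, hww']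

end Local

/-- Main theorem. -/
theorem Congr.exists_open (h : Congr f) [QuasiCompact G.hom] [LocallyOfFiniteType Z.hom]
    [QuasiCompact Z.hom] [IsSeparated Z.hom] [IsSchemeTheoreticallyDominant f.left] :
    ∃ U : Z.left.Opens, (∀ ξ : G.left, Mx ξ → f.left ξ ∈ U) ∧ Flat (f.left ∣_ U) ∧
      Surjective (f.left ∣_ U) := by
  have hfq : QuasiCompact f.left := by
    have : QuasiCompact (f.left ≫ Z.hom) := by rw [Over.w]; infer_instance
    exact QuasiCompact.of_comp f.left Z.hom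
  have : IsDominant f.left := inferInstance
  have hφq : QuasiCompact (f ⊗ₘ f).left := by
    rw [tensorHom_left]
    have := quasiCompact_whiskerRight f G
    have := quasiCompact_whiskerLeft f Z
    infer_instance
  have hφd : IsSchemeTheoreticallyDominant (f ⊗ₘ f).left := by
    rw [tensorHom_left]
    have := dominant_whiskerRight f G
    have := dominant_whiskerLeft f Z
    infer_instance
  have hZl : LocallyOfFiniteType (Z ⊗ Z).hom := by
    rw [Over.tensorObj_hom]; infer_instance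
  have hZs : IsSeparated (Z ⊗ Z).hom := by
    rw [Over.tensorObj_hom]; infer_instance
  have hZq : QuasiCompact (Z ⊗ Z).hom := by
    rw [Over.tensorObj_hom]; infer_instance
  have hZn : IsLocallyNoetherian (Z ⊗ Z).left :=
    LocallyOfFiniteType.isLocallyNoetherian (Z ⊗ Z).hom
  have hm : ∀ x : (G ⊗ G).left, Mx x → Mx ((f ⊗ₘ f).left x) := fun x hx =>
    Congr.mx_map h.tensor hx
  have hfl := h.tensor.flat_snd
  have key : ∀ w₀ : (Z ⊗ Z).left, Mx w₀ → ∃ V : (Z ⊗ Z).left.Opens, w₀ ∈ V ∧ ∀ w ∈ V,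
      (∀ g : G.left, f.left g = (snd Z Z).left w → IsFlatAt f.left g) ∧
        (snd Z Z).left w ∈ Set.range f.left := by
    intro w₀ h₀
    obtain ⟨O₁, hO₁, θ₁, hθ₁o, hθ₁, hfac₁, hfl₁, hra₁⟩ :=
      exists_iso_fac (f ⊗ₘ f).left hfl (Z ⊗ Z).hom ((Over.forget _).mapIso (sh₁ G))
        (by
          change (sh₁ G).hom.left ≫ (f ⊗ₘ f).left ≫ (Z ⊗ Z).hom = _
          rw [Over.w, Over.w])
        (fun T a b => rel_left (f ⊗ₘ f) ((sh₁ G).hom ≫ (f ⊗ₘ f)) (fun T a b => h.sh₁_hom) T a b)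
        (fun T a b => rel_left (f ⊗ₘ f) ((sh₁ G).inv ≫ (f ⊗ₘ f)) (fun T a b => h.sh₁_inv) T a b)
        hm h₀
    obtain ⟨O₂, hO₂, θ₂, hθ₂o, hθ₂, hfac₂, hfl₂, hra₂⟩ :=
      exists_iso_fac (f ⊗ₘ f).left hfl (Z ⊗ Z).hom ((Over.forget _).mapIso (sh₂ G))
        (by
          change (sh₂ G).hom.left ≫ (f ⊗ₘ f).left ≫ (Z ⊗ Z).hom = _
          rw [Over.w, Over.w])
        (fun T a b => rel_left (f ⊗ₘ f) ((sh₂ G).hom ≫ (f ⊗ₘ f)) (fun T a b => h.sh₂_hom) T a b)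
        (fun T a b => rel_left (f ⊗ₘ f) ((sh₂ G).inv ≫ (f ⊗ₘ f)) (fun T a b => h.sh₂_inv) T a b)
        hm h₀
    refine ⟨O₁ ⊓ O₂, ⟨hO₁, hO₂⟩, fun w hw => ⟨fun g hg => ?_, ?_⟩⟩
    · exact isFlatAt_of_local h hfl₁ hw.1 g hg
    · exact mem_range_of_local h θ₁ θ₂ hθ₁ hθ₂ hfac₁ hfac₂ hra₁ hw.1 hw.2
  let Ω : (Z ⊗ Z).left.Opens := sSup {V | ∀ w ∈ V,
      (∀ g : G.left, f.left g = (snd Z Z).left w → IsFlatAt f.left g) ∧
        (snd Z Z).left w ∈ Set.range f.left}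
  have hΩ : ∀ w ∈ Ω, (∀ g : G.left, f.left g = (snd Z Z).left w → IsFlatAt f.left g) ∧
        (snd Z Z).left w ∈ Set.range f.left := by
    intro w hw
    obtain ⟨V, hV, hwV⟩ := TopologicalSpace.Opens.mem_sSup.mp hw
    exact hV w hwV
  have hΩm : ∀ w₀ : (Z ⊗ Z).left, Mx w₀ → w₀ ∈ Ω := by
    intro w₀ h₀
    obtain ⟨V, hV, hV'⟩ := key w₀ h₀
    exact TopologicalSpace.Opens.mem_sSup.mpr ⟨V, hV', hV⟩
  have hopen : IsOpenMap (snd Z Z).left := by
    have : UniversallyOpen Z.hom := inferInstance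
    have : UniversallyOpen (snd Z Z).left := by
      rw [Over.snd_left]
      infer_instance
    exact (snd Z Z).left.isOpenMap
  let U : Z.left.Opens := ⟨(snd Z Z).left '' Ω, hopen _ Ω.2⟩
  refine ⟨U, ?_, ?_, ?_⟩
  · intro ξ hξ
    have hξ' : Mx (f.left ξ) := Congr.mx_map h hξ
    obtain ⟨w, -, hw⟩ := exists_preimage (isPullback_tensor_left Z Z) (f.left ξ) (f.left ξ) rfl
    obtain ⟨w₀, hw₀, hm₀⟩ := exists_mx w
    refine ⟨w₀, hΩm w₀ hm₀, hξ' _ ?_⟩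
    rw [← hw]
    exact hw₀.map (snd Z Z).left.continuous
  · apply flat_of_forall_isFlatAt
    intro y
    refine IsFlatAt.of_isPullback (isPullback_morphismRestrict f.left U).flip y ?_
    obtain ⟨w, hw, hw'⟩ : f.left ((f.left ⁻¹ᵁ U).ι y) ∈ U := ι_mem (f.left ⁻¹ᵁ U) y
    exact (hΩ w hw).1 _ hw'.symm
  · constructor
    intro u
    obtain ⟨w, hw, hw'⟩ : U.ι u ∈ U := ι_mem U u
    obtain ⟨g, hg⟩ := (hΩ w hw).2
    rw [hw'] at hg
    obtain ⟨y, hy⟩ := exists_ι_eq (f.left ⁻¹ᵁ U) (x := g) (by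
      change f.left g ∈ U
      rw [hg]
      exact ι_mem U u)
    refine ⟨y, U.ι.isOpenEmbedding.injective ?_⟩
    rw [← Scheme.Hom.comp_apply, morphismRestrict_ι, Scheme.Hom.comp_apply, hy, hg]

/-- The version for a normal subgroup. -/
theorem exists_open (k : Type u) [Field k] (G N Z : Over (Spec (CommRingCat.of k))) [GrpObj G]
    [GrpObj N] [QuasiCompact G.hom] (n : N ⟶ G) [IsMonHom n] (hN : AlgGrp.IsNormalHom n)
    [LocallyOfFiniteType Z.hom] [QuasiCompact Z.hom] [IsSeparated Z.hom] (f : G ⟶ Z)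
    [IsSchemeTheoreticallyDominant f.left]
    (hf : ∀ (T : Over (Spec (CommRingCat.of k))) (a b : T ⟶ G), a ≫ f = b ≫ f ↔
      ∃ c : T ⟶ N, c ≫ n = a⁻¹ * b) :
    ∃ U : Z.left.Opens, (∀ ξ : G.left, (∀ y, y ⤳ ξ → y = ξ) → f.left ξ ∈ U) ∧
      Flat (f.left ∣_ U) ∧ Surjective (f.left ∣_ U) :=
  Congr.exists_open (congr_of_normal n f hN hf)

end Groth.Agent.Sga3.H787.GenMain
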