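import Mathlib.AlgebraicGeometry.SpreadingOut
import Mathlib.AlgebraicGeometry.Sites.Fpqc
import Groth.Agent.Sga3C.GenPts
import Groth.Agent.Sga3C.FlatPt
import Groth.Agent.Sga3C.SchemImage
import Groth.Agent.CycB.RelDim4

/-!
# Points of schemes: maximal points, generizations inside fibres

`Mx x`: the point `x` has no proper generization.  `FibGeneric f x` (library): `x` has no proper
generization in its fibre.
-/

set_option autoImplicit false
universe u

open CategoryTheory CategoryTheory.Limits AlgebraicGeometry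

namespace Groth.Agent.Sga3.H787.GenPt

open Groth.Agent.CycB.RelDim Groth.Agent.Sga3C.FlatPt

variable {X Y Z S P : Scheme.{u}}

/-- `x` has no proper generization. -/
def Mx (x : X) : Prop := ∀ y : X, y ⤳ x → y = x

theorem exists_mx (x : X) : ∃ z : X, z ⤳ x ∧ Mx z := by
  obtain ⟨z, hz, hzx⟩ := Groth.Agent.Sga3C.GenPts.exists_mem_genericPoints_specializes x
  exact ⟨z, hzx, fun y hy =>
    Groth.Agent.Sga3C.GenPts.eq_of_specializes_of_mem_genericPoints hz y hy⟩

/-- Flat at a maximal point: the image is a maximal point. -/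
theorem Mx.map_of_isFlatAt {f : X ⟶ Y} {x : X} (hx : Mx x) (hf : IsFlatAt f x) : Mx (f x) := by
  intro y hy
  have h1 : y ∈ Set.range (Y.fromSpecStalk (f x)) := by
    rw [Scheme.range_fromSpecStalk]; exact hy
  obtain ⟨y', rfl⟩ := h1
  have h2 : Flat (Spec.map (f.stalkMap x)) := by
    rw [Flat.SpecMap_iff]; exact (isFlatAt_iff_stalkMap f x).mp hf
  have h3 : (Spec.map (f.stalkMap x)) (IsLocalRing.closedPoint (X.presheaf.stalk x)) =
      IsLocalRing.closedPoint (Y.presheaf.stalk (f x)) :=
    IsLocalRing.comap_closedPoint (f.stalkMap x).hom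
  have h4 : y' ⤳ (Spec.map (f.stalkMap x)) (IsLocalRing.closedPoint (X.presheaf.stalk x)) := by
    rw [h3]
    exact IsLocalRing.specializes_closedPoint y'
  obtain ⟨x', h5, h6⟩ := Flat.generalizingMap (Spec.map (f.stalkMap x)) h4
  have h7 : X.fromSpecStalk x x' ⤳ x := by
    have : X.fromSpecStalk x x' ∈ Set.range (X.fromSpecStalk x) := ⟨x', rfl⟩
    rwa [Scheme.range_fromSpecStalk] at this
  have h8 := hx _ h7
  rw [← h6, ← Scheme.Hom.comp_apply, Scheme.SpecMap_stalkMap_fromSpecStalk,
    Scheme.Hom.comp_apply, h8]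

theorem Mx.map_of_flat {f : X ⟶ Y} [Flat f] {x : X} (hx : Mx x) : Mx (f x) :=
  hx.map_of_isFlatAt (isFlatAt_of_flat f x)

theorem Mx.map_of_isIso {f : X ⟶ Y} [IsIso f] {x : X} (hx : Mx x) : Mx (f x) := hx.map_of_flat

/-- A maximal point in the image of a quasi-compact dominant morphism, it is the image of a
maximal point. -/
theorem exists_mx_of_dominant (f : X ⟶ Y) [QuasiCompact f] [IsDominant f] {y : Y} (hy : Mx y) :
    ∃ x : X, Mx x ∧ f x = y := by
  obtain ⟨x, rfl⟩ := Groth.Agent.Sga3C.GenPts.mem_range_of_mem_closure_range f y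
    (f.denseRange y) hy
  obtain ⟨z, hz, hm⟩ := exists_mx x
  exact ⟨z, hm, hy _ (hz.map f.continuous)⟩

/-- In a cartesian square generizations with the same image in the base lift, with the second
coordinate fixed. -/
theorem exists_lift_snd {f : X ⟶ S} {g : Y ⟶ S} {p : P ⟶ X} {q : P ⟶ Y} (h : IsPullback p q f g)
    (t : P) (z : X) (hz : z ⤳ p t) (hf : f z = f (p t)) :
    ∃ t' : P, t' ⤳ t ∧ p t' = z ∧ q t' = q t := by
  -- reduce to the chosen pullback
  wlog hP : ∃ e : P = pullback g f, q = eqToHom e ≫ pullback.fst g f ∧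
      p = eqToHom e ≫ pullback.snd g f generalizing P p q
  · let e := h.flip.isoPullback
    have h1 : e.hom ≫ pullback.fst g f = q := h.flip.isoPullback_hom_fst
    have h2 : e.hom ≫ pullback.snd g f = p := h.flip.isoPullback_hom_snd
    have h1t : (pullback.fst g f) (e.hom t) = q t := by
      rw [← Scheme.Hom.comp_apply, h1]
    have h2t : (pullback.snd g f) (e.hom t) = p t := by
      rw [← Scheme.Hom.comp_apply, h2]
    obtain ⟨t', ht1, ht2, ht3⟩ := this (IsPullback.of_hasPullback g f).flip (e.hom t)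
      (by rw [h2t]; exact hz) (by rw [h2t]; exact hf) ⟨rfl, by simp, by simp⟩
    refine ⟨e.inv t', ?_, ?_, ?_⟩
    · have := ht1.map e.inv.continuous
      rw [← Scheme.Hom.comp_apply, e.hom_inv_id] at this
      exact this
    · rw [← h2, ← Scheme.Hom.comp_apply, Iso.inv_hom_id_assoc, ht2]
    · rw [← h1t, ← h1, ← Scheme.Hom.comp_apply, Iso.inv_hom_id_assoc, ht3]
  obtain ⟨rfl, rfl, rfl⟩ := hP
  simp only [eqToHom_refl, Category.id_comp] at *
  obtain ⟨m, hm, hmc⟩ := exists_flat_fiber_map (f := g) (g := f) (pullback.fst g f t)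
  have hgs : f (pullback.snd g f t) = g (pullback.fst g f t) :=
    congr($(pullback.condition (f := g) (g := f)) t).symm
  obtain ⟨z', hz'⟩ : z ∈ Set.range (f.fiberι (g (pullback.fst g f t))) := by
    rw [Scheme.Hom.range_fiberι]
    exact hf.trans hgs
  let s := (pullback.fst g f).asFiber t
  have hs : (pullback.fst g f).fiberι (pullback.fst g f t) s = t := Scheme.Hom.fiberι_asFiber _ _
  have h1 : f.fiberι _ (m s) = pullback.snd g f t := by
    rw [← Scheme.Hom.comp_apply, hmc, Scheme.Hom.comp_apply, hs]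
  have h2 : z' ⤳ m s := by
    rw [← (f.fiberι _).isEmbedding.isInducing.specializes_iff, hz', h1]
    exact hz
  obtain ⟨s', hs1, hs2⟩ := Flat.generalizingMap m h2
  refine ⟨(pullback.fst g f).fiberι _ s', ?_, ?_, ?_⟩
  · have := hs1.map ((pullback.fst g f).fiberι (pullback.fst g f t)).continuous
    rwa [hs] at this
  · rw [← Scheme.Hom.comp_apply, ← hmc, Scheme.Hom.comp_apply, hs2, hz']
  · have : (pullback.fst g f).fiberι _ s' ∈
        Set.range ((pullback.fst g f).fiberι (pullback.fst g f t)) := ⟨s', rfl⟩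
    rw [Scheme.Hom.range_fiberι] at this
    exact this

/-- Every point of a morphism has a generization in its fibre which is maximal there. -/
theorem exists_fibGeneric (f : X ⟶ Y) (x : X) : ∃ x' : X, x' ⤳ x ∧ f x' = f x ∧ FibGeneric f x' := by
  obtain ⟨T, hT, hle⟩ := exists_mem_irreducibleComponents_subset_of_isIrreducible
    ({f.asFiber x} : Set (f.fiber (f x))) isIrreducible_singleton
  obtain ⟨z, rfl, hz⟩ := exists_fibGeneric_of_mem hT
  have hzx : z ⤳ f.asFiber x := specializes_iff_mem_closure.mpr (hle rfl)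
  refine ⟨f.fiberι (f x) z, ?_, ?_, hz⟩
  · have := hzx.map (f.fiberι (f x)).continuous
    rwa [Scheme.Hom.fiberι_asFiber] at this
  · have : f.fiberι (f x) z ∈ Set.range (f.fiberι (f x)) := ⟨z, rfl⟩
    rw [Scheme.Hom.range_fiberι] at this
    exact this

theorem Mx.fibGeneric {f : X ⟶ Y} {x : X} (hx : Mx x) : FibGeneric f x := fun y _ hy => hx y hy

/-- a fibre-generic point of the second projection of a product over a point has maximal first
coordinate. -/
theorem mx_fst_of_fibGeneric {f : X ⟶ S} {g : Y ⟶ S} {p : P ⟶ X} {q : P ⟶ Y}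
    (h : IsPullback p q f g) (hS : Subsingleton S) {t : P} (ht : FibGeneric q t) : Mx (p t) := by
  intro z hz
  obtain ⟨t', h1, h2, h3⟩ := exists_lift_snd h t z hz (Subsingleton.elim _ _)
  rw [← h2, ht t' h3 h1]

end Groth.Agent.Sga3.H787.GenPt
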